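import Groth.Prelude.Def_SGA7IX
import Groth.Agent.MiscA.WCDedekind
import Mathlib.RingTheory.DedekindDomain.IntegralClosure
import Mathlib.RingTheory.Invariant.Profinite
import Mathlib.RingTheory.Invariant.Galois
import Mathlib.FieldTheory.Galois.Profinite
import Mathlib.FieldTheory.Galois.Infinite
import Mathlib.RingTheory.IntegralClosure.IntegralRestrict
import Mathlib.RingTheory.LocalRing.ResidueField.Basic
import Mathlib.FieldTheory.IntermediateField.Adjoin.Algebra
import Mathlib.FieldTheory.IntermediateField.Adjoin.Basic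
import Mathlib.RingTheory.Valuation.LocalSubring
import Mathlib.RingTheory.Bezout
import Mathlib.Algebra.GCDMonoid.IntegrallyClosed

/-!
# Conjugacy of the valuation subrings above a discrete valuation ring

`R` a discrete valuation ring with fraction field `K`, `Ω / K` Galois (possibly infinite).

* `valuation_lt_one_iff`: `W.valuation x < 1` in terms of membership;
* `eq_of_center`: a valuation subring of `Ω` over `R` is determined by its centre on the integral
  closure of `R` (here `Ω / K` algebraic);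
* `exists_algEquiv`: `Aut(Ω / K)` is transitive on the valuation subrings of `Ω` over `R`;
* transport of `LiesOver`, `IsInertia`, `galAct`, `dev`, `InertiaTrivialOn`, `InertiaLevelTwoOn`,
  `InertiaUnipotentOn` along `τ ∈ Aut(Ω / K)`, and independence of the valuation subring over `R`.
-/

set_option autoImplicit false
set_option linter.unusedSectionVars false

universe u

open CategoryTheory CategoryTheory.Limits AlgebraicGeometry MonObj IsDedekindDomain
open scoped Pointwise

noncomputable section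

namespace Groth.Agent.Sga7.H274.ValConj

section general

variable {Ω : Type u} [Field Ω]

/-- The value group condition `v_W(x) < 1` only depends on `W` as a subring. -/
theorem valuation_lt_one_iff (W : ValuationSubring Ω) (x : Ω) :
    W.valuation x < 1 ↔ x ∈ W ∧ (x = 0 ∨ x⁻¹ ∉ W) := by
  constructor
  · intro h
    refine ⟨(W.valuation_le_one_iff x).1 h.le, ?_⟩
    by_cases hx : x = 0
    · exact Or.inl hx
    · right
      intro h'
      have h1 := (W.valuation_le_one_iff x⁻¹).2 h'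
      rw [map_inv₀] at h1
      have h2 : 0 < W.valuation x := by
        simpa [zero_lt_iff] using hx
      rw [inv_le_one₀ h2] at h1
      exact absurd h (not_lt.2 h1)
  · rintro ⟨h1, h2⟩
    rcases h2 with rfl | h2
    · simp
    · by_cases hx : x = 0
      · simp [hx]
      · have h3 : 0 < W.valuation x := by
          simpa [zero_lt_iff] using hx
        by_contra h4
        rw [not_lt] at h4
        apply h2
        rw [← W.valuation_le_one_iff, map_inv₀, inv_le_one₀ h3]
        exact h4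

/-- A valuation subring contains the integral closure of any subring it contains. -/
theorem mem_of_isIntegral {R : Type u} [CommRing R] [Algebra R Ω] (W : ValuationSubring Ω)
    (h : ∀ r : R, algebraMap R Ω r ∈ W) {x : Ω} (hx : IsIntegral R x) : x ∈ W := by
  let _ : Algebra R W := ((algebraMap R Ω).codRestrict W.toSubring h).toAlgebra
  have : IsScalarTower R W Ω := IsScalarTower.of_algebraMap_eq fun r => rfl
  have h1 : IsIntegral W x := hx.tower_top
  obtain ⟨y, hy⟩ := IsIntegrallyClosed.algebraMap_eq_of_integral h1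
  rw [← hy]
  exact y.2

theorem mul_inv_mem {W : ValuationSubring Ω} {a s : Ω} (ha : a ∈ W) (hs : s ∈ W)
    (hs' : ¬ W.valuation s < 1) : a * s⁻¹ ∈ W := by
  refine W.mul_mem _ _ ha ?_
  rw [valuation_lt_one_iff] at hs'
  push Not at hs'
  exact (hs' hs).2

end general

section center

variable {R K Ω : Type u} [CommRing R] [IsDomain R] [IsDiscreteValuationRing R]
  [Field K] [Algebra R K] [IsFractionRing R K] [Field Ω] [Algebra K Ω]

/-- A valuation subring of `Ω` over `R` does not contain the inverse of a uniformiser. -/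
theorem exists_inv_notMem {W : ValuationSubring Ω} (hW : SGA7.LiesOver K R W) :
    ∃ r : R, r ≠ 0 ∧ r ∈ IsLocalRing.maximalIdeal R ∧
      (algebraMap K Ω (algebraMap R K r))⁻¹ ∉ W := by
  obtain ⟨ϖ, hϖ⟩ := IsDiscreteValuationRing.exists_irreducible R
  have hm : ϖ ∈ IsLocalRing.maximalIdeal R := by
    rw [hϖ.maximalIdeal_eq]
    exact Ideal.mem_span_singleton_self ϖ
  refine ⟨ϖ, hϖ.ne_zero, hm, ?_⟩
  have h1 := hW.2 ϖ hm
  rw [valuation_lt_one_iff] at h1
  rcases h1.2 with h2 | h2
  · exfalso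
    rw [map_eq_zero] at h2
    exact hϖ.ne_zero ((map_eq_zero_iff _ (IsFractionRing.injective R K)).1 h2)
  · exact h2

/-- A valuation subring over `R` is determined by its centre on the integral closure of `R`: one inclusion. -/
theorem le_of_center [Algebra.IsAlgebraic K Ω] [Algebra.IsSeparable K Ω] {W W' : ValuationSubring Ω}
    (hW : SGA7.LiesOver K R W) (hW' : SGA7.LiesOver K R W')
    (h : letI : Algebra R Ω := ((algebraMap K Ω).comp (algebraMap R K)).toAlgebra
      ∀ b : Ω, IsIntegral R b → W'.valuation b < 1 → W.valuation b < 1) : W ≤ W' := by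
  let _ : Algebra R Ω := ((algebraMap K Ω).comp (algebraMap R K)).toAlgebra
  have : IsScalarTower R K Ω := IsScalarTower.of_algebraMap_eq fun r => rfl
  intro x hx
  let L : IntermediateField K Ω := IntermediateField.adjoin K {x}
  have : FiniteDimensional K L :=
    IntermediateField.adjoin.finiteDimensional (Algebra.IsAlgebraic.isAlgebraic x).isIntegral
  have hsep : Algebra.IsSeparable K L := Algebra.isSeparable_tower_bot_of_isSeparable K L Ω
  let _ : Algebra R L := ((algebraMap K L).comp (algebraMap R K)).toAlgebra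
  have : IsScalarTower R K L := IsScalarTower.of_algebraMap_eq fun r => rfl
  have : IsScalarTower R L Ω := IsScalarTower.of_algebraMap_eq fun r => rfl
  have h1 : IsDedekindDomain (integralClosure R L) := integralClosure.isDedekindDomain R K L
  have h2 : IsFractionRing (integralClosure R L) L :=
    integralClosure.isFractionRing_of_finite_extension K L
  let V : ValuationSubring L := W.comap (algebraMap L Ω)
  have hVtop : V ≠ ⊤ := by
    intro htop
    obtain ⟨r, -, -, hr⟩ := exists_inv_notMem hW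
    apply hr
    have : (algebraMap K L (algebraMap R K r))⁻¹ ∈ V := by rw [htop]; exact ValuationSubring.mem_top _
    rw [ValuationSubring.mem_comap, map_inv₀, ← IsScalarTower.algebraMap_apply K L Ω] at this
    exact this
  have hint : ∀ a : integralClosure R L, IsIntegral R (algebraMap L Ω (a : L)) := fun a =>
    (a.2 : IsIntegral R (a : L)).map (IsScalarTower.toAlgHom R L Ω)
  obtain ⟨p, hp⟩ := Groth.Agent.MiscA.WCDedekind.exists_eq_valuationSubring
    (A := integralClosure R L) V hVtop (fun a => by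
      rw [ValuationSubring.mem_comap]
      exact mem_of_isIntegral W (fun r => hW.1 r) (hint a))
  have hxL : x ∈ L := IntermediateField.mem_adjoin_simple_self K x
  have hxV : (⟨x, hxL⟩ : L) ∈ V := by
    rw [ValuationSubring.mem_comap]
    exact hx
  rw [← hp, Valuation.mem_valuationSubring_iff] at hxV
  obtain ⟨a, s, has⟩ := p.exists_primeCompl_mul_eq_of_integer _ hxV
  have hs1 : p.valuation L (algebraMap _ L (s : integralClosure R L)) = 1 :=
    (HeightOneSpectrum.valuation_eq_one_iff_notMem p).2 s.2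
  have hs2 : (algebraMap (integralClosure R L) L s)⁻¹ ∈ V := by
    rw [← hp, Valuation.mem_valuationSubring_iff, map_inv₀, hs1, inv_one]
  have hs0 : algebraMap (integralClosure R L) L s ≠ 0 := by
    intro h0
    rw [h0, map_zero] at hs1
    exact zero_ne_one hs1
  have hsW : ¬ W.valuation (algebraMap L Ω (algebraMap (integralClosure R L) L s)) < 1 := by
    rw [valuation_lt_one_iff]
    rintro ⟨-, h3 | h3⟩
    · exact hs0 ((map_eq_zero _).1 h3)
    · apply h3
      rw [← map_inv₀]
      exact hs2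
  have hsW' : ¬ W'.valuation (algebraMap L Ω (algebraMap (integralClosure R L) L s)) < 1 :=
    fun h4 => hsW (h _ (hint _) h4)
  have hx' : x = algebraMap L Ω (algebraMap (integralClosure R L) L a) *
      (algebraMap L Ω (algebraMap (integralClosure R L) L s))⁻¹ := by
    have h5 := congrArg (algebraMap L Ω) has
    rw [map_mul] at h5
    rw [← h5, _root_.mul_assoc, mul_inv_cancel₀, _root_.mul_one]
    · rfl
    · rw [ne_eq, map_eq_zero]
      exact hs0
  rw [hx']
  exact mul_inv_mem (mem_of_isIntegral W' (fun r => hW'.1 r) (hint _))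
    (mem_of_isIntegral W' (fun r => hW'.1 r) (hint _)) hsW'

end center

section invariant

variable (R K Ω : Type u) [CommRing R] [IsDomain R] [IsIntegrallyClosed R]
  [Field K] [Algebra R K] [IsFractionRing R K] [Field Ω] [Algebra K Ω] [Algebra R Ω]
  [IsScalarTower R K Ω] [IsGalois K Ω]

instance smulCommClass_gal : SMulCommClass (Ω ≃ₐ[K] Ω) R Ω where
  smul_comm g a x := by
    rw [Algebra.smul_def, Algebra.smul_def, IsScalarTower.algebraMap_apply R K Ω]
    simp

instance smulCommClass_integralClosure : SMulCommClass (Ω ≃ₐ[K] Ω) R (integralClosure R Ω) where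
  smul_comm g a x := Subtype.ext (smul_comm g a (x : Ω))

instance isInvariant_integralClosure :
    Algebra.IsInvariant R (integralClosure R Ω) (Ω ≃ₐ[K] Ω) where
  isInvariant b hb := by
    have h1 : (b : Ω) ∈ (⊥ : IntermediateField K Ω) := by
      rw [InfiniteGalois.mem_bot_iff_fixed]
      intro f
      exact congrArg Subtype.val (hb f)
    obtain ⟨k, hk⟩ := IntermediateField.mem_bot.1 h1
    have h2 : IsIntegral R k := by
      have h3 : IsIntegral R (algebraMap K Ω k) := by rw [hk]; exact b.2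
      exact (isIntegral_algHom_iff (IsScalarTower.toAlgHom R K Ω) (algebraMap K Ω).injective).1 h3
    obtain ⟨r, hr⟩ := IsIntegrallyClosed.algebraMap_eq_of_integral h2
    refine ⟨r, Subtype.ext ?_⟩
    change algebraMap R Ω r = b
    rw [IsScalarTower.algebraMap_apply R K Ω, hr, hk]

/-- The discrete topology on the integral closure, to be used locally. -/
@[implicit_reducible]
def topB : TopologicalSpace (integralClosure R Ω) := ⊥

lemma continuousSMul_B : letI := topB R Ω; ContinuousSMul (Ω ≃ₐ[K] Ω) (integralClosure R Ω) := by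
  let _ := topB R Ω
  have : DiscreteTopology (integralClosure R Ω) := ⟨rfl⟩
  rw [continuousSMul_iff_stabilizer_isOpen]
  intro x
  convert! stabilizer_isOpen_of_isIntegral (K := K) (L := Ω) (x : Ω) using 1
  ext g
  simp only [SetLike.mem_coe, MulAction.mem_stabilizer_iff]
  constructor
  · intro h; exact congrArg Subtype.val h
  · intro h; exact Subtype.ext h

/-- `Aut(Ω / K)` is transitive on the primes of the integral closure of the normal domain `R` in `Ω` over a given
prime of `R`. -/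
theorem exists_smul_eq (P Q : Ideal (integralClosure R Ω)) [P.IsPrime] [Q.IsPrime]
    (h : P.under R = Q.under R) : ∃ g : Ω ≃ₐ[K] Ω, Q = g • P := by
  let _ := topB R Ω
  have : DiscreteTopology (integralClosure R Ω) := ⟨rfl⟩
  have := continuousSMul_B R K Ω
  exact Algebra.IsInvariant.exists_smul_of_under_eq_of_profinite (A := R)
    (G := Ω ≃ₐ[K] Ω) P Q h

end invariant

section transitive

variable (R K Ω : Type u) [CommRing R] [IsDomain R] [IsDiscreteValuationRing R]
  [Field K] [Algebra R K] [IsFractionRing R K] [Field Ω] [Algebra K Ω] [Algebra R Ω]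
  [IsScalarTower R K Ω] [IsGalois K Ω]

variable {R K Ω}

/-- The centre of a valuation subring over `R` on the integral closure of `R`. -/
def centre (W : ValuationSubring Ω) (h : ∀ r : R, algebraMap R Ω r ∈ W) :
    Ideal (integralClosure R Ω) :=
  (IsLocalRing.maximalIdeal W).comap
    ((integralClosure R Ω).val.toRingHom.codRestrict W.toSubring
      (fun b => mem_of_isIntegral W h b.2))

instance isPrime_centre (W : ValuationSubring Ω) (h : ∀ r : R, algebraMap R Ω r ∈ W) :
    (centre W h).IsPrime := by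
  rw [centre]
  infer_instance

theorem mem_centre (W : ValuationSubring Ω) (h : ∀ r : R, algebraMap R Ω r ∈ W)
    (b : integralClosure R Ω) : b ∈ centre W h ↔ W.valuation (b : Ω) < 1 := by
  rw [centre, Ideal.mem_comap]
  exact (W.valuation_lt_one_iff _)

/-- `Aut(Ω / K)` acts transitively on the valuation subrings of `Ω` over `R`. -/
theorem exists_algEquiv' {W W' : ValuationSubring Ω} (hW : SGA7.LiesOver K R W)
    (hW' : SGA7.LiesOver K R W') : ∃ τ : Ω ≃ₐ[K] Ω, ∀ x, τ x ∈ W' ↔ x ∈ W := by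
  have e : ∀ r : R, algebraMap R Ω r = algebraMap K Ω (algebraMap R K r) := fun r =>
    IsScalarTower.algebraMap_apply R K Ω r
  have h1 : ∀ r : R, algebraMap R Ω r ∈ W := fun r => by rw [e]; exact hW.1 r
  have h1' : ∀ r : R, algebraMap R Ω r ∈ W' := fun r => by rw [e]; exact hW'.1 r
  have hun : ∀ (V : ValuationSubring Ω) (h : ∀ r : R, algebraMap R Ω r ∈ V)
      (_ : SGA7.LiesOver K R V), (centre V h).under R = IsLocalRing.maximalIdeal R := by
    intro V h hV
    symm
    apply (IsLocalRing.maximalIdeal.isMaximal R).eq_of_le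
    · exact Ideal.IsPrime.ne_top inferInstance
    · intro r hr
      rw [Ideal.mem_comap, mem_centre]
      change V.valuation (algebraMap R Ω r) < 1
      rw [e]
      exact hV.2 r hr
  obtain ⟨τ, hτ⟩ := exists_smul_eq R K Ω (centre W h1) (centre W' h1')
    (by rw [hun W h1 hW, hun W' h1' hW'])
  have hval : ∀ b : Ω, IsIntegral R b → (W'.valuation (τ b) < 1 ↔ W.valuation b < 1) := by
    intro b hb
    have h2 : (τ • (⟨b, hb⟩ : integralClosure R Ω)) ∈ centre W' h1' ↔
        (⟨b, hb⟩ : integralClosure R Ω) ∈ centre W h1 := by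
      rw [hτ]
      exact Ideal.smul_mem_pointwise_smul_iff
    rw [mem_centre, mem_centre] at h2
    exact h2
  let V : ValuationSubring Ω := W'.comap (τ : Ω →+* Ω)
  have hmem : ∀ x, x ∈ V ↔ τ x ∈ W' := fun x => Iff.rfl
  have hVval : ∀ x, V.valuation x < 1 ↔ W'.valuation (τ x) < 1 := by
    intro x
    rw [valuation_lt_one_iff, valuation_lt_one_iff, hmem, hmem, map_inv₀, map_eq_zero]
  have hV : SGA7.LiesOver K R V := by
    constructor
    · intro r
      rw [hmem, τ.commutes]
      exact hW'.1 r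
    · intro r hr
      rw [hVval, τ.commutes]
      exact hW'.2 r hr
  have hint : ∀ b : Ω, (letI : Algebra R Ω := ((algebraMap K Ω).comp (algebraMap R K)).toAlgebra
      IsIntegral R b) → IsIntegral R b := by
    intro b hb
    obtain ⟨p, hp, hp'⟩ := hb
    refine ⟨p, hp, ?_⟩
    rw [IsScalarTower.algebraMap_eq R K Ω]
    exact hp'
  refine ⟨τ, fun x => ?_⟩
  rw [← hmem]
  constructor
  · intro hx
    exact le_of_center hV hW (fun b hb h3 => (hVval b).2 ((hval b (hint b hb)).2 h3)) hx
  · intro hx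
    exact le_of_center hW hV (fun b hb h3 => (hval b (hint b hb)).1 ((hVval b).1 h3)) hx

end transitive

section transport

variable {R K Ω : Type u} [Field K] [Field Ω] [Algebra K Ω]

/-- `Aut(Ω / K)` acts transitively on the valuation subrings of `Ω` over the discrete valuation ring `R`. -/
theorem exists_algEquiv [CommRing R] [IsDomain R] [IsDiscreteValuationRing R] [Algebra R K]
    [IsFractionRing R K] [IsGalois K Ω] {W W' : ValuationSubring Ω}
    (hW : SGA7.LiesOver K R W) (hW' : SGA7.LiesOver K R W') :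
    ∃ τ : Ω ≃ₐ[K] Ω, ∀ x, τ x ∈ W' ↔ x ∈ W := by
  let _ : Algebra R Ω := ((algebraMap K Ω).comp (algebraMap R K)).toAlgebra
  have : IsScalarTower R K Ω := IsScalarTower.of_algebraMap_eq fun r => rfl
  exact exists_algEquiv' hW hW'

/-- The valuation condition is transported along with membership. -/
theorem valuation_lt_one_iff_of_mem_iff {W W' : ValuationSubring Ω} {τ : Ω ≃ₐ[K] Ω}
    (h : ∀ x, τ x ∈ W' ↔ x ∈ W) (x : Ω) : W'.valuation (τ x) < 1 ↔ W.valuation x < 1 := by
  rw [valuation_lt_one_iff, valuation_lt_one_iff, h, ← map_inv₀, h, map_eq_zero]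

/-- `LiesOver` is transported by `Aut(Ω / K)`. -/
theorem liesOver_of_mem_iff [CommRing R] [IsLocalRing R] [Algebra R K] {W W' : ValuationSubring Ω}
    {τ : Ω ≃ₐ[K] Ω} (h : ∀ x, τ x ∈ W' ↔ x ∈ W) (hW : SGA7.LiesOver K R W) :
    SGA7.LiesOver K R W' := by
  constructor
  · intro r
    rw [← τ.commutes, h]
    exact hW.1 r
  · intro r hr
    rw [← τ.commutes, valuation_lt_one_iff_of_mem_iff h]
    exact hW.2 r hr

theorem symm_mem_iff {W W' : ValuationSubring Ω} {τ : Ω ≃ₐ[K] Ω}
    (h : ∀ x, τ x ∈ W' ↔ x ∈ W) (x : Ω) : τ⁻¹ x ∈ W ↔ x ∈ W' := by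
  rw [← h]
  change τ (τ.symm x) ∈ W' ↔ _
  rw [AlgEquiv.apply_symm_apply]

/-- Inertia groups of conjugate valuation subrings are conjugate. -/
theorem isInertia_conj {W W' : ValuationSubring Ω} {τ : Ω ≃ₐ[K] Ω}
    (h : ∀ x, τ x ∈ W' ↔ x ∈ W) {σ : Ω ≃ₐ[K] Ω} (hσ : SGA7.IsInertia W σ) :
    SGA7.IsInertia W' (τ * σ * τ⁻¹) := by
  intro x hx
  have hx' : τ⁻¹ x ∈ W := (symm_mem_iff h x).2 hx
  obtain ⟨h1, h2⟩ := hσ _ hx'
  have e : (τ * σ * τ⁻¹) x = τ (σ (τ⁻¹ x)) := rfl
  have e' : x = τ (τ⁻¹ x) := (AlgEquiv.apply_symm_apply τ x).symm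
  refine ⟨?_, ?_⟩
  · rw [e, h]
    exact h1
  · rw [e]
    nth_rw 2 [e']
    rw [← map_sub, valuation_lt_one_iff_of_mem_iff h]
    exact h2

theorem isInertia_conj_iff {W W' : ValuationSubring Ω} {τ : Ω ≃ₐ[K] Ω}
    (h : ∀ x, τ x ∈ W' ↔ x ∈ W) {σ : Ω ≃ₐ[K] Ω} :
    SGA7.IsInertia W' (τ * σ * τ⁻¹) ↔ SGA7.IsInertia W σ := by
  constructor
  · intro hσ
    have h1 := isInertia_conj (τ := τ⁻¹) (symm_mem_iff h) hσ
    have e : τ⁻¹ * (τ * σ * τ⁻¹) * τ⁻¹⁻¹ = σ := by group
    rwa [e] at h1
  · exact isInertia_conj h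

end transport

section action

variable {K Ω : Type u} [Field K] [Field Ω] [Algebra K Ω]

theorem specAut_mul (σ τ : Ω ≃ₐ[K] Ω) :
    SGA7.specAut (σ * τ) = SGA7.specAut σ ≫ SGA7.specAut τ := by
  apply Over.OverMorphism.ext
  simp only [SGA7.specAut, Over.homMk_left, Over.comp_left]
  rw [← Spec.map_comp, ← CommRingCat.ofHom_comp]
  rfl

theorem specAut_one : SGA7.specAut (1 : Ω ≃ₐ[K] Ω) = 𝟙 _ := by
  apply Over.OverMorphism.ext
  simp only [SGA7.specAut, Over.homMk_left, Over.id_left]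
  exact Spec.map_id _

variable {A : Over (Spec (CommRingCat.of K))}

theorem galAct_mul (σ τ : Ω ≃ₐ[K] Ω) (x : SGA7.Pts Ω A) :
    SGA7.galAct (σ * τ) x = SGA7.galAct σ (SGA7.galAct τ x) := by
  rw [SGA7.galAct, SGA7.galAct, SGA7.galAct, specAut_mul, Category.assoc]

theorem galAct_one (x : SGA7.Pts Ω A) : SGA7.galAct (1 : Ω ≃ₐ[K] Ω) x = x := by
  rw [SGA7.galAct, specAut_one, Category.id_comp]

theorem galAct_inv_galAct (σ : Ω ≃ₐ[K] Ω) (x : SGA7.Pts Ω A) :
    SGA7.galAct σ⁻¹ (SGA7.galAct σ x) = x := by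
  rw [← galAct_mul, inv_mul_cancel, galAct_one]

theorem galAct_galAct_inv (σ : Ω ≃ₐ[K] Ω) (x : SGA7.Pts Ω A) :
    SGA7.galAct σ (SGA7.galAct σ⁻¹ x) = x := by
  rw [← galAct_mul, mul_inv_cancel, galAct_one]

variable [GrpObj A]

theorem galAct_map_mul (σ : Ω ≃ₐ[K] Ω) (x y : SGA7.Pts Ω A) :
    SGA7.galAct σ (x * y) = SGA7.galAct σ x * SGA7.galAct σ y := by
  simp only [SGA7.galAct]
  exact MonObj.comp_mul _ _ _

theorem galAct_map_one (σ : Ω ≃ₐ[K] Ω) : SGA7.galAct σ (1 : SGA7.Pts Ω A) = 1 := by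
  simp only [SGA7.galAct]
  exact MonObj.comp_one _

/-- The action of `σ` on the group of points, as a group isomorphism. -/
def galEquiv (A : Over (Spec (CommRingCat.of K))) [GrpObj A] (σ : Ω ≃ₐ[K] Ω) :
    SGA7.Pts Ω A ≃* SGA7.Pts Ω A where
  toFun := SGA7.galAct σ
  invFun := SGA7.galAct σ⁻¹
  left_inv x := galAct_inv_galAct σ x
  right_inv x := galAct_galAct_inv σ x
  map_mul' x y := galAct_map_mul σ x y

@[simp]
theorem galEquiv_apply (σ : Ω ≃ₐ[K] Ω) (x : SGA7.Pts Ω A) :
    galEquiv A σ x = SGA7.galAct σ x := rfl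

theorem galAct_map_inv (σ : Ω ≃ₐ[K] Ω) (x : SGA7.Pts Ω A) :
    SGA7.galAct σ x⁻¹ = (SGA7.galAct σ x)⁻¹ :=
  map_inv (galEquiv A σ) x

theorem galAct_map_pow (σ : Ω ≃ₐ[K] Ω) (x : SGA7.Pts Ω A) (n : ℕ) :
    SGA7.galAct σ (x ^ n) = (SGA7.galAct σ x) ^ n :=
  map_pow (galEquiv A σ) x n

/-- `τ (σ - 1) x = (τ σ τ⁻¹ - 1) τ x`. -/
theorem galAct_dev (τ σ : Ω ≃ₐ[K] Ω) (x : SGA7.Pts Ω A) :
    SGA7.galAct τ (SGA7.dev σ x) = SGA7.dev (τ * σ * τ⁻¹) (SGA7.galAct τ x) := by
  rw [SGA7.dev, SGA7.dev, galAct_map_mul, galAct_map_inv, galAct_mul, galAct_mul,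
    galAct_inv_galAct]

theorem galAct_iterate_dev (τ σ : Ω ≃ₐ[K] Ω) (m : ℕ) (x : SGA7.Pts Ω A) :
    SGA7.galAct τ ((SGA7.dev σ)^[m] x) = (SGA7.dev (τ * σ * τ⁻¹))^[m] (SGA7.galAct τ x) := by
  induction m generalizing x with
  | zero => rfl
  | succ m ih => rw [Function.iterate_succ_apply, Function.iterate_succ_apply, ih, galAct_dev]

end action

section torsion

variable {K Ω : Type u} [Field K] [Field Ω] [Algebra K Ω] {A : Over (Spec (CommRingCat.of K))}
  [GrpObj A] {W W' : ValuationSubring Ω} {τ : Ω ≃ₐ[K] Ω}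

theorem conj_eq (τ σ : Ω ≃ₐ[K] Ω) : τ * (τ⁻¹ * σ * τ⁻¹⁻¹) * τ⁻¹ = σ := by
  group

theorem inertiaTrivialOn_of_mem_iff (h : ∀ x, τ x ∈ W' ↔ x ∈ W) {n : ℕ}
    (hA : SGA7.InertiaTrivialOn W A n) : SGA7.InertiaTrivialOn W' A n := by
  intro σ hσ x hx
  have h1 := hA (τ⁻¹ * σ * τ⁻¹⁻¹) (isInertia_conj (symm_mem_iff h) hσ) (SGA7.galAct τ⁻¹ x)
    (by rw [← galAct_map_pow, hx, galAct_map_one])
  rw [galAct_mul, galAct_mul, inv_inv, galAct_galAct_inv] at h1
  have h2 := congrArg (SGA7.galAct τ) h1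
  rwa [galAct_galAct_inv, galAct_galAct_inv] at h2

theorem inertiaLevelTwoOn_of_mem_iff (h : ∀ x, τ x ∈ W' ↔ x ∈ W) {ℓ : ℕ}
    (hA : SGA7.InertiaLevelTwoOn W A ℓ) : SGA7.InertiaLevelTwoOn W' A ℓ := by
  intro ν σ ρ hσ hρ x hx
  have h1 := hA ν (τ⁻¹ * σ * τ⁻¹⁻¹) (τ⁻¹ * ρ * τ⁻¹⁻¹) (isInertia_conj (symm_mem_iff h) hσ)
    (isInertia_conj (symm_mem_iff h) hρ) (SGA7.galAct τ⁻¹ x)
    (by rw [← galAct_map_pow, hx, galAct_map_one])
  have h2 := congrArg (SGA7.galAct τ) h1
  rw [galAct_dev, galAct_dev, conj_eq, conj_eq, galAct_galAct_inv, galAct_map_one] at h2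
  exact h2

theorem inertiaUnipotentOn_of_mem_iff (h : ∀ x, τ x ∈ W' ↔ x ∈ W) {ℓ : ℕ}
    (hA : SGA7.InertiaUnipotentOn W A ℓ) : SGA7.InertiaUnipotentOn W' A ℓ := by
  intro σ hσ
  obtain ⟨m, hm⟩ := hA (τ⁻¹ * σ * τ⁻¹⁻¹) (isInertia_conj (symm_mem_iff h) hσ)
  refine ⟨m, fun ν x hx => ?_⟩
  have h1 := hm ν (SGA7.galAct τ⁻¹ x) (by rw [← galAct_map_pow, hx, galAct_map_one])
  have h2 := congrArg (SGA7.galAct τ) h1
  rw [galAct_iterate_dev, conj_eq, galAct_galAct_inv, galAct_map_one] at h2
  exact h2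

variable {R : Type u} [CommRing R] [IsDomain R] [IsDiscreteValuationRing R] [Algebra R K]
  [IsFractionRing R K] [IsGalois K Ω]

/-- Independence of the valuation subring over `R`. -/
theorem inertiaTrivialOn_iff (hW : SGA7.LiesOver K R W) (hW' : SGA7.LiesOver K R W') (n : ℕ) :
    SGA7.InertiaTrivialOn W A n ↔ SGA7.InertiaTrivialOn W' A n := by
  obtain ⟨τ, hτ⟩ := exists_algEquiv hW hW'
  exact ⟨inertiaTrivialOn_of_mem_iff hτ, inertiaTrivialOn_of_mem_iff (symm_mem_iff hτ)⟩

theorem inertiaLevelTwoOn_iff (hW : SGA7.LiesOver K R W) (hW' : SGA7.LiesOver K R W') (ℓ : ℕ) :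
    SGA7.InertiaLevelTwoOn W A ℓ ↔ SGA7.InertiaLevelTwoOn W' A ℓ := by
  obtain ⟨τ, hτ⟩ := exists_algEquiv hW hW'
  exact ⟨inertiaLevelTwoOn_of_mem_iff hτ, inertiaLevelTwoOn_of_mem_iff (symm_mem_iff hτ)⟩

theorem inertiaUnipotentOn_iff (hW : SGA7.LiesOver K R W) (hW' : SGA7.LiesOver K R W') (ℓ : ℕ) :
    SGA7.InertiaUnipotentOn W A ℓ ↔ SGA7.InertiaUnipotentOn W' A ℓ := by
  obtain ⟨τ, hτ⟩ := exists_algEquiv hW hW'
  exact ⟨inertiaUnipotentOn_of_mem_iff hτ, inertiaUnipotentOn_of_mem_iff (symm_mem_iff hτ)⟩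

end torsion

end Groth.Agent.Sga7.H274.ValConj
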