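import Groth.Prelude.Def_SGA7IX
import Groth.Agent.Sga7.H737.RankZeroBC
import Groth.Agent.Sga7.H274.ValConj
import Mathlib.RingTheory.Valuation.ValuationRing
import Mathlib.RingTheory.Localization.AtPrime.Basic

/-!
# Transport of good and semistable reduction

`HasSemistableReduction R K A` and `HasGoodReduction R K A` are invariant under isomorphisms of group schemes,
under base change (`R₁ → R₂` quasi-finite on spectra for semistable reduction), hence under isomorphisms
`(R₁, K₁) ≅ (R₂, K₂)`.  For `K'/K` and `σ ∈ Aut(K'/K)` one has `σ^* A_{K'} ≅ A_{K'}`, hence reductions of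
`A_{K'}` over `R₁ ⊂ K'` and `σ R₁ ⊂ K'` are equivalent.

* `semistable_iff_of_dvr`, `good_iff_of_dvr`: `K'/K` Galois, `R₁, R₂` DVRs of `K'` over the DVR `R` of `K`;
* `semistable_iff_of_localization`, `good_iff_of_localization`: `R₁, R₂` the local rings of a normal domain `R'`
  with fraction field `K'` at conjugate maximal ideals (`Localization.AtPrime` or any `IsLocalization.AtPrime`).
-/

set_option autoImplicit false
set_option linter.unusedSectionVars false

universe u

open CategoryTheory CategoryTheory.Limits AlgebraicGeometry MonObj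

noncomputable section

namespace Groth.Agent.Sga7.H274.Transport

open Groth.Agent.Sga3B Groth.Agent.Sga3B.RedIso Groth.Agent.Sga3B.Parab.GeomFib147

/-- `Spec` of a ring homomorphism. -/
abbrev sp {R₁ R₂ : Type u} [CommRing R₁] [CommRing R₂] (f : R₁ →+* R₂) :
    Spec (CommRingCat.of R₂) ⟶ Spec (CommRingCat.of R₁) :=
  Spec.map (CommRingCat.ofHom f)

theorem sp_comp {R₁ R₂ R₃ : Type u} [CommRing R₁] [CommRing R₂] [CommRing R₃] (f : R₁ →+* R₂)
    (g : R₂ →+* R₃) : sp g ≫ sp f = sp (g.comp f) := by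
  rw [← Spec.map_comp, ← CommRingCat.ofHom_comp]

instance isIso_sp {R₁ R₂ : Type u} [CommRing R₁] [CommRing R₂] (f : R₁ ≃+* R₂) :
    IsIso (sp (f : R₁ →+* R₂)) := by
  have : IsIso (CommRingCat.ofHom (f : R₁ →+* R₂)) := f.toCommRingCatIso.isIso_hom
  infer_instance

/-- `FibresUnipotentRankZero` is stable under locally quasi-finite base change. -/
theorem fibresUnipotentRankZero_bc {S S' : Scheme.{u}} (f : S' ⟶ S) [LocallyQuasiFinite f] (G : Over S)
    [GrpObj G] (h : SGA7.FibresUnipotentRankZero G) : SGA7.FibresUnipotentRankZero (Red.bc f G) :=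
  fun s' => Groth.Agent.Sga7.H737.RankZeroBC.fibreUnipotentRankZero_bc f G s' (h _)

section iso

variable {R K : Type u} [CommRing R] [Field K] [Algebra R K]
  {A A' : Over (Spec (CommRingCat.of K))} [GrpObj A] [GrpObj A']

theorem hasSemistableReduction_of_iso (e : Grp.mk A ≅ Grp.mk A')
    (h : SGA7.HasSemistableReduction R K A) : SGA7.HasSemistableReduction R K A' := by
  obtain ⟨G, iG, i, hi, h1, h2, h3, h4⟩ := h
  refine ⟨G, iG, i ≪≫ und e, ?_, h1, h2, h3, h4⟩
  have : IsMonHom i.hom := hi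
  exact inferInstanceAs (IsMonHom (i.hom ≫ (und e).hom))

theorem hasGoodReduction_of_iso (e : Grp.mk A ≅ Grp.mk A')
    (h : SGA7.HasGoodReduction R K A) : SGA7.HasGoodReduction R K A' := by
  obtain ⟨G, iG, i, hi, h1, h2, h3⟩ := h
  refine ⟨G, iG, i ≪≫ und e, ?_, h1, h2, h3⟩
  have : IsMonHom i.hom := hi
  exact inferInstanceAs (IsMonHom (i.hom ≫ (und e).hom))

end iso

section square

variable {R₁ K₁ R₂ K₂ : Type u} [CommRing R₁] [Field K₁] [Algebra R₁ K₁] [CommRing R₂] [Field K₂]
  [Algebra R₂ K₂]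

/-- Base change of the generic fibre along a commutative square. -/
def genIso (f : R₁ →+* R₂) (κ : K₁ →+* K₂)
    (h : ∀ r, algebraMap R₂ K₂ (f r) = κ (algebraMap R₁ K₁ r))
    (G : Over (Spec (CommRingCat.of R₁))) [GrpObj G] :
    Grp.mk (Red.bc (sp (algebraMap R₂ K₂)) (Red.bc (sp f) G)) ≅
      Grp.mk (Red.bc (sp κ) (Red.bc (sp (algebraMap R₁ K₁)) G)) :=
  sqIso (by
    have e : (algebraMap R₂ K₂).comp f = κ.comp (algebraMap R₁ K₁) := RingHom.ext h
    rw [sp_comp, sp_comp, e]) G

/-- **Semistable reduction and base change** (quasi-finite on the spectra of the rings). -/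
theorem hasSemistableReduction_bc (f : R₁ →+* R₂) [LocallyQuasiFinite (sp f)] (κ : K₁ →+* K₂)
    (h : ∀ r, algebraMap R₂ K₂ (f r) = κ (algebraMap R₁ K₁ r))
    {A : Over (Spec (CommRingCat.of K₁))} [GrpObj A] (hA : SGA7.HasSemistableReduction R₁ K₁ A) :
    SGA7.HasSemistableReduction R₂ K₂ (Red.bc (sp κ) A) := by
  obtain ⟨G, iG, i, hi, h1, h2, h3, h4⟩ := hA
  have hi' : IsMonHom i.hom := hi
  let e : Grp.mk (Red.bc (sp (algebraMap R₁ K₁)) G) ≅ Grp.mk A :=
    Grp.mkIso i (one_f := IsMonHom.one_hom i.hom) (mul_f := IsMonHom.mul_hom i.hom)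
  let e' := genIso f κ h G ≪≫ BcIso.bcMapIso (sp κ) e
  refine ⟨Red.bc (sp f) G, inferInstance, und e', inferInstance, ?_, ?_, ?_, ?_⟩
  · change Smooth (pullback.snd G.hom (sp f))
    infer_instance
  · change IsSeparated (pullback.snd G.hom (sp f))
    infer_instance
  · change QuasiCompact (pullback.snd G.hom (sp f))
    infer_instance
  · exact fibresUnipotentRankZero_bc (sp f) G h4

/-- **Good reduction and base change.** -/
theorem hasGoodReduction_bc (f : R₁ →+* R₂) (κ : K₁ →+* K₂)
    (h : ∀ r, algebraMap R₂ K₂ (f r) = κ (algebraMap R₁ K₁ r))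
    {A : Over (Spec (CommRingCat.of K₁))} [GrpObj A] (hA : SGA7.HasGoodReduction R₁ K₁ A) :
    SGA7.HasGoodReduction R₂ K₂ (Red.bc (sp κ) A) := by
  obtain ⟨G, iG, i, hi, h1, h2, h3⟩ := hA
  have hi' : IsMonHom i.hom := hi
  let e : Grp.mk (Red.bc (sp (algebraMap R₁ K₁)) G) ≅ Grp.mk A :=
    Grp.mkIso i (one_f := IsMonHom.one_hom i.hom) (mul_f := IsMonHom.mul_hom i.hom)
  let e' := genIso f κ h G ≪≫ BcIso.bcMapIso (sp κ) e
  refine ⟨Red.bc (sp f) G, inferInstance, und e', inferInstance, ?_, ?_, ?_⟩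
  · change IsProper (pullback.snd G.hom (sp f))
    infer_instance
  · change Smooth (pullback.snd G.hom (sp f))
    infer_instance
  · intro k' _ t
    have h5 := h3 k' (t ≫ sp f)
    have e1 : pullback (pullback.snd G.hom (sp f)) t ≅ pullback G.hom (t ≫ sp f) :=
      pullbackLeftPullbackSndIso G.hom (sp f) t
    exact connectedSpace_of_iso e1.inv h5

end square

section conj

variable {K K' R₁ R₂ : Type u} [Field K] [Field K'] [Algebra K K'] [CommRing R₁] [CommRing R₂]
  [Algebra R₁ K'] [Algebra R₂ K']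

/-- `σ^* A_{K'} ≅ A_{K'}`. -/
def conjIso (σ : K' →ₐ[K] K') (A : Over (Spec (CommRingCat.of K))) [GrpObj A] :
    Grp.mk (Red.bc (sp (σ : K' →+* K')) (Red.bc (sp (algebraMap K K')) A)) ≅
      Grp.mk (Red.bc (sp (algebraMap K K')) A) :=
  (BcIso.bcCompIso (sp (σ : K' →+* K')) (sp (algebraMap K K')) A).symm ≪≫
    BcIso.bcCongrIso (by
      have e : (σ : K' →+* K').comp (algebraMap K K') = algebraMap K K' :=
        RingHom.ext fun x => σ.commutes x
      rw [sp_comp, e]) A

variable (A : Over (Spec (CommRingCat.of K))) [GrpObj A]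

theorem semistable_of_conj (f : R₁ ≃+* R₂) (σ : K' ≃ₐ[K] K')
    (h : ∀ r, algebraMap R₂ K' (f r) = σ (algebraMap R₁ K' r))
    (hA : SGA7.HasSemistableReduction R₁ K' (Red.bc (sp (algebraMap K K')) A)) :
    SGA7.HasSemistableReduction R₂ K' (Red.bc (sp (algebraMap K K')) A) :=
  hasSemistableReduction_of_iso (conjIso (σ : K' →ₐ[K] K') A)
    (hasSemistableReduction_bc (f : R₁ →+* R₂) ((σ : K' →ₐ[K] K') : K' →+* K') h hA)

theorem good_of_conj (f : R₁ ≃+* R₂) (σ : K' ≃ₐ[K] K')
    (h : ∀ r, algebraMap R₂ K' (f r) = σ (algebraMap R₁ K' r))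
    (hA : SGA7.HasGoodReduction R₁ K' (Red.bc (sp (algebraMap K K')) A)) :
    SGA7.HasGoodReduction R₂ K' (Red.bc (sp (algebraMap K K')) A) :=
  hasGoodReduction_of_iso (conjIso (σ : K' →ₐ[K] K') A)
    (hasGoodReduction_bc (f : R₁ →+* R₂) ((σ : K' →ₐ[K] K') : K' →+* K') h hA)

/-- `semistable_of_conj`, both directions. -/
theorem semistable_iff_of_conj (f : R₁ ≃+* R₂) (σ : K' ≃ₐ[K] K')
    (h : ∀ r, algebraMap R₂ K' (f r) = σ (algebraMap R₁ K' r)) :
    SGA7.HasSemistableReduction R₁ K' (Red.bc (sp (algebraMap K K')) A) ↔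
      SGA7.HasSemistableReduction R₂ K' (Red.bc (sp (algebraMap K K')) A) :=
  ⟨semistable_of_conj A f σ h, semistable_of_conj A f.symm σ.symm (fun r => by
    rw [AlgEquiv.eq_symm_apply, ← h, RingEquiv.apply_symm_apply])⟩

theorem good_iff_of_conj (f : R₁ ≃+* R₂) (σ : K' ≃ₐ[K] K')
    (h : ∀ r, algebraMap R₂ K' (f r) = σ (algebraMap R₁ K' r)) :
    SGA7.HasGoodReduction R₁ K' (Red.bc (sp (algebraMap K K')) A) ↔
      SGA7.HasGoodReduction R₂ K' (Red.bc (sp (algebraMap K K')) A) :=
  ⟨good_of_conj A f σ h, good_of_conj A f.symm σ.symm (fun r => by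
    rw [AlgEquiv.eq_symm_apply, ← h, RingEquiv.apply_symm_apply])⟩

/-- Subrings of `K'` with conjugate images. -/
theorem exists_ringEquiv (h1 : Function.Injective (algebraMap R₁ K'))
    (h2 : Function.Injective (algebraMap R₂ K')) (σ : K' ≃ₐ[K] K')
    (h : ∀ x, x ∈ (algebraMap R₁ K').range ↔ σ x ∈ (algebraMap R₂ K').range) :
    ∃ f : R₁ ≃+* R₂, ∀ r, algebraMap R₂ K' (f r) = σ (algebraMap R₁ K' r) := by
  have h3 : ∀ r : R₁, ∃ s : R₂, algebraMap R₂ K' s = σ (algebraMap R₁ K' r) := fun r =>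
    (h _).1 ⟨r, rfl⟩
  choose f hf using h3
  have h4 : ∀ s : R₂, ∃ r : R₁, algebraMap R₁ K' r = σ.symm (algebraMap R₂ K' s) := fun s => by
    refine (h _).2 ?_
    rw [AlgEquiv.apply_symm_apply]
    exact ⟨s, rfl⟩
  choose g hg using h4
  refine ⟨{ toFun := f, invFun := g, left_inv := ?_, right_inv := ?_, map_mul' := ?_,
            map_add' := ?_ }, hf⟩
  · intro r
    apply h1
    rw [hg, hf, AlgEquiv.symm_apply_apply]
  · intro s
    apply h2
    rw [hf, hg, AlgEquiv.apply_symm_apply]
  · intro x y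
    apply h2
    rw [hf, map_mul, map_mul, map_mul, hf, hf]
  · intro x y
    apply h2
    rw [hf, map_add, map_add, map_add, hf, hf]

end conj

section dvr

variable {R K K' : Type u} [CommRing R] [IsDomain R] [IsDiscreteValuationRing R] [Field K] [Algebra R K]
  [IsFractionRing R K] [Field K'] [Algebra K K'] [Algebra R K'] [IsScalarTower R K K']

/-- A local ring `R₁` of `K'` dominating `R`: its valuation subring lies over `R`. -/
theorem liesOver_of_valuationRing {R₁ : Type u} [CommRing R₁] [IsDomain R₁] [ValuationRing R₁]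
    [Algebra R₁ K'] [IsFractionRing R₁ K'] [Algebra R R₁] [IsScalarTower R R₁ K']
    [IsLocalHom (algebraMap R R₁)] :
    SGA7.LiesOver K R (ValuationRing.valuation R₁ K').valuationSubring := by
  have key : ∀ x : K', x ∈ (ValuationRing.valuation R₁ K').valuationSubring ↔
      x ∈ (algebraMap R₁ K').range := by
    intro x
    rw [Valuation.mem_valuationSubring_iff, ← Valuation.mem_integer_iff,
      ValuationRing.mem_integer_iff]
    rfl
  constructor
  · intro r
    rw [key, ← IsScalarTower.algebraMap_apply, IsScalarTower.algebraMap_apply R R₁ K']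
    exact ⟨_, rfl⟩
  · intro r hr
    rw [ValConj.valuation_lt_one_iff, key, ← IsScalarTower.algebraMap_apply,
      IsScalarTower.algebraMap_apply R R₁ K']
    refine ⟨⟨_, rfl⟩, ?_⟩
    by_cases h0 : algebraMap R₁ K' (algebraMap R R₁ r) = 0
    · exact Or.inl h0
    · right
      rw [key]
      rintro ⟨s, hs⟩
      have h1 : algebraMap R R₁ r * s = 1 := by
        apply IsFractionRing.injective R₁ K'
        rw [map_mul, hs, mul_inv_cancel₀ h0, map_one]
      have h2 : IsUnit (algebraMap R R₁ r) := IsUnit.of_mul_eq_one _ h1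
      have h3 : IsUnit r := isUnit_of_map_unit (algebraMap R R₁) r h2
      exact (IsLocalRing.mem_maximalIdeal r).1 hr h3

variable (R K K')

/-- `Aut(K'/K)` is transitive on the valuation rings of `K'` over `R`. -/
theorem exists_algEquiv_ringEquiv [IsGalois K K'] (R₁ R₂ : Type u)
    [CommRing R₁] [IsDomain R₁] [ValuationRing R₁] [Algebra R₁ K'] [IsFractionRing R₁ K']
    [Algebra R R₁] [IsScalarTower R R₁ K'] [IsLocalHom (algebraMap R R₁)]
    [CommRing R₂] [IsDomain R₂] [ValuationRing R₂] [Algebra R₂ K'] [IsFractionRing R₂ K']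
    [Algebra R R₂] [IsScalarTower R R₂ K'] [IsLocalHom (algebraMap R R₂)] :
    ∃ (σ : K' ≃ₐ[K] K') (f : R₁ ≃+* R₂), ∀ r, algebraMap R₂ K' (f r) = σ (algebraMap R₁ K' r) := by
  obtain ⟨σ, hσ⟩ := ValConj.exists_algEquiv (R := R) (K := K) (Ω := K')
    (liesOver_of_valuationRing (R := R) (K := K) (K' := K') (R₁ := R₁))
    (liesOver_of_valuationRing (R := R) (K := K) (K' := K') (R₁ := R₂))
  refine ⟨σ, exists_ringEquiv (IsFractionRing.injective R₁ K') (IsFractionRing.injective R₂ K') σ
    (fun x => ?_)⟩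
  have := hσ x
  rw [Valuation.mem_valuationSubring_iff, Valuation.mem_valuationSubring_iff,
    ← Valuation.mem_integer_iff, ← Valuation.mem_integer_iff, ValuationRing.mem_integer_iff,
    ValuationRing.mem_integer_iff] at this
  exact this.symm

variable {R K K'} (A : Over (Spec (CommRingCat.of K))) [GrpObj A]

/-- **Transport of semistable reduction** between the valuation rings of `K'` over `R`. -/
theorem semistable_iff_of_dvr [IsGalois K K'] (R₁ R₂ : Type u)
    [CommRing R₁] [IsDomain R₁] [ValuationRing R₁] [Algebra R₁ K'] [IsFractionRing R₁ K']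
    [Algebra R R₁] [IsScalarTower R R₁ K'] [IsLocalHom (algebraMap R R₁)]
    [CommRing R₂] [IsDomain R₂] [ValuationRing R₂] [Algebra R₂ K'] [IsFractionRing R₂ K']
    [Algebra R R₂] [IsScalarTower R R₂ K'] [IsLocalHom (algebraMap R R₂)] :
    SGA7.HasSemistableReduction R₁ K' (Red.bc (Spec.map (CommRingCat.ofHom (algebraMap K K'))) A) ↔
      SGA7.HasSemistableReduction R₂ K' (Red.bc (Spec.map (CommRingCat.ofHom (algebraMap K K'))) A) := by
  obtain ⟨σ, f, h⟩ := exists_algEquiv_ringEquiv R K K' R₁ R₂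
  exact semistable_iff_of_conj A f σ h

/-- **Transport of good reduction** between the valuation rings of `K'` over `R`. -/
theorem good_iff_of_dvr [IsGalois K K'] (R₁ R₂ : Type u)
    [CommRing R₁] [IsDomain R₁] [ValuationRing R₁] [Algebra R₁ K'] [IsFractionRing R₁ K']
    [Algebra R R₁] [IsScalarTower R R₁ K'] [IsLocalHom (algebraMap R R₁)]
    [CommRing R₂] [IsDomain R₂] [ValuationRing R₂] [Algebra R₂ K'] [IsFractionRing R₂ K']
    [Algebra R R₂] [IsScalarTower R R₂ K'] [IsLocalHom (algebraMap R R₂)] :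
    SGA7.HasGoodReduction R₁ K' (Red.bc (Spec.map (CommRingCat.ofHom (algebraMap K K'))) A) ↔
      SGA7.HasGoodReduction R₂ K' (Red.bc (Spec.map (CommRingCat.ofHom (algebraMap K K'))) A) := by
  obtain ⟨σ, f, h⟩ := exists_algEquiv_ringEquiv R K K' R₁ R₂
  exact good_iff_of_conj A f σ h

end dvr

section localization

variable {K K' : Type u} [Field K] [Field K'] [Algebra K K']

/-- The local rings of a subring `R'` of `K'` at conjugate primes. -/
theorem exists_ringEquiv_localization {R' : Type u} [CommRing R'] [Algebra R' K']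
    (σ : K' ≃ₐ[K] K') (ρ : R' ≃+* R') (hρ : ∀ r, algebraMap R' K' (ρ r) = σ (algebraMap R' K' r))
    (q₁ q₂ : Ideal R') [q₁.IsPrime] [q₂.IsPrime] (hq : ∀ r, ρ r ∈ q₂ ↔ r ∈ q₁)
    (R₁ R₂ : Type u) [CommRing R₁] [CommRing R₂] [Algebra R' R₁] [Algebra R' R₂]
    [IsLocalization.AtPrime R₁ q₁] [IsLocalization.AtPrime R₂ q₂] [Algebra R₁ K'] [Algebra R₂ K']
    [IsScalarTower R' R₁ K'] [IsScalarTower R' R₂ K'] :
    ∃ f : R₁ ≃+* R₂, ∀ r, algebraMap R₂ K' (f r) = σ (algebraMap R₁ K' r) := by
  have hM : Submonoid.map (ρ : R' →* R') q₁.primeCompl = q₂.primeCompl := by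
    ext x
    simp only [Submonoid.mem_map]
    constructor
    · rintro ⟨y, hy, rfl⟩
      exact fun h => hy ((hq y).1 h)
    · intro hx
      refine ⟨ρ.symm x, fun h => hx ?_, ρ.apply_symm_apply x⟩
      have := (hq (ρ.symm x)).2 h
      rwa [ρ.apply_symm_apply] at this
  let f : R₁ ≃+* R₂ := IsLocalization.ringEquivOfRingEquiv (M := q₁.primeCompl)
    (T := q₂.primeCompl) R₁ R₂ ρ hM
  refine ⟨f, ?_⟩
  have h1 : (algebraMap R₂ K').comp (f : R₁ →+* R₂) = (σ : K' →+* K').comp (algebraMap R₁ K') := by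
    apply IsLocalization.ringHom_ext q₁.primeCompl
    ext r
    have h2 : f (algebraMap R' R₁ r) = algebraMap R' R₂ (ρ r) :=
      IsLocalization.ringEquivOfRingEquiv_eq hM r
    change algebraMap R₂ K' (f (algebraMap R' R₁ r)) = σ (algebraMap R₁ K' (algebraMap R' R₁ r))
    rw [h2, ← IsScalarTower.algebraMap_apply, ← IsScalarTower.algebraMap_apply, hρ]
  exact fun r => RingHom.congr_fun h1 r

end localization

section integralClosure

open scoped Pointwise

variable (R K K' : Type u) [CommRing R] [IsDomain R] [IsIntegrallyClosed R] [Field K] [Algebra R K]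
  [IsFractionRing R K] [Field K'] [Algebra K K'] [Algebra R K'] [IsScalarTower R K K'] [IsGalois K K']

/-- `Aut(K'/K)` is transitive on the local rings of the integral closure over a given prime of `R`. -/
theorem exists_algEquiv_localization (q₁ q₂ : Ideal (integralClosure R K')) [q₁.IsPrime] [q₂.IsPrime]
    (h : q₁.under R = q₂.under R) (R₁ R₂ : Type u) [CommRing R₁] [CommRing R₂]
    [Algebra (integralClosure R K') R₁] [Algebra (integralClosure R K') R₂]
    [IsLocalization.AtPrime R₁ q₁] [IsLocalization.AtPrime R₂ q₂] [Algebra R₁ K'] [Algebra R₂ K']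
    [IsScalarTower (integralClosure R K') R₁ K'] [IsScalarTower (integralClosure R K') R₂ K'] :
    ∃ (σ : K' ≃ₐ[K] K') (f : R₁ ≃+* R₂), ∀ r, algebraMap R₂ K' (f r) = σ (algebraMap R₁ K' r) := by
  obtain ⟨σ, hσ⟩ := ValConj.exists_smul_eq R K K' q₁ q₂ h
  refine ⟨σ, exists_ringEquiv_localization σ
    (MulSemiringAction.toRingEquiv (K' ≃ₐ[K] K') (integralClosure R K') σ) (fun r => rfl) q₁ q₂
    (fun r => ?_) R₁ R₂⟩
  rw [hσ]
  exact Ideal.smul_mem_pointwise_smul_iff

variable {R K K'} (A : Over (Spec (CommRingCat.of K))) [GrpObj A]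

/-- **Transport of semistable reduction** between the local rings of the integral closure `R'` of `R` in the Galois
extension `K'/K` at two primes over the same prime of `R`. -/
theorem semistable_iff_of_localization (q₁ q₂ : Ideal (integralClosure R K')) [q₁.IsPrime] [q₂.IsPrime]
    (h : q₁.under R = q₂.under R) (R₁ R₂ : Type u) [CommRing R₁] [CommRing R₂]
    [Algebra (integralClosure R K') R₁] [Algebra (integralClosure R K') R₂]
    [IsLocalization.AtPrime R₁ q₁] [IsLocalization.AtPrime R₂ q₂] [Algebra R₁ K'] [Algebra R₂ K']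
    [IsScalarTower (integralClosure R K') R₁ K'] [IsScalarTower (integralClosure R K') R₂ K'] :
    SGA7.HasSemistableReduction R₁ K' (Red.bc (Spec.map (CommRingCat.ofHom (algebraMap K K'))) A) ↔
      SGA7.HasSemistableReduction R₂ K' (Red.bc (Spec.map (CommRingCat.ofHom (algebraMap K K'))) A) := by
  obtain ⟨σ, f, h⟩ := exists_algEquiv_localization R K K' q₁ q₂ h R₁ R₂
  exact semistable_iff_of_conj A f σ h

/-- **Transport of good reduction** between the local rings of the integral closure `R'` of `R` in the Galois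
extension `K'/K` at two primes over the same prime of `R`. -/
theorem good_iff_of_localization (q₁ q₂ : Ideal (integralClosure R K')) [q₁.IsPrime] [q₂.IsPrime]
    (h : q₁.under R = q₂.under R) (R₁ R₂ : Type u) [CommRing R₁] [CommRing R₂]
    [Algebra (integralClosure R K') R₁] [Algebra (integralClosure R K') R₂]
    [IsLocalization.AtPrime R₁ q₁] [IsLocalization.AtPrime R₂ q₂] [Algebra R₁ K'] [Algebra R₂ K']
    [IsScalarTower (integralClosure R K') R₁ K'] [IsScalarTower (integralClosure R K') R₂ K'] :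
    SGA7.HasGoodReduction R₁ K' (Red.bc (Spec.map (CommRingCat.ofHom (algebraMap K K'))) A) ↔
      SGA7.HasGoodReduction R₂ K' (Red.bc (Spec.map (CommRingCat.ofHom (algebraMap K K'))) A) := by
  obtain ⟨σ, f, h⟩ := exists_algEquiv_localization R K K' q₁ q₂ h R₁ R₂
  exact good_iff_of_conj A f σ h

end integralClosure

section mixed

variable {R K K' : Type u} [CommRing R] [IsDomain R] [IsDiscreteValuationRing R] [Field K] [Algebra R K]
  [IsFractionRing R K] [Field K'] [Algebra K K'] [Algebra R K'] [IsScalarTower R K K']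

/-- All maximal ideals of an integral algebra over a local ring lie over the maximal ideal. -/
theorem under_eq_of_isMaximal {R R' : Type u} [CommRing R] [IsLocalRing R] [CommRing R'] [Algebra R R']
    [Algebra.IsIntegral R R'] (q₁ q₂ : Ideal R') [q₁.IsMaximal] [q₂.IsMaximal] :
    q₁.under R = q₂.under R := by
  have h : ∀ (q : Ideal R') [q.IsMaximal], q.under R = IsLocalRing.maximalIdeal R := by
    intro q hq
    have : (q.under R).IsMaximal := Ideal.isMaximal_comap_of_isIntegral_of_isMaximal q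
    exact IsLocalRing.eq_maximalIdeal this
  rw [h q₁, h q₂]

end mixed

end Groth.Agent.Sga7.H274.Transport
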