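import Groth.Agent.Sga7.H751.SecRoot
import Groth.Agent.Etrest.SHPoint
import Groth.Agent.Books.AlgPts
import Groth.Agent.Sga7.H620.Special
import Groth.Agent.Books.AlgPtsGrp
import Mathlib.GroupTheory.Index
import Mathlib.AlgebraicGeometry.Noetherian

/-!
# Points of algebraic groups over algebraically closed fields

* `exists_root`: the group of points of a smooth connected commutative group is divisible by integers prime to the
  characteristic.
* `exists_pow_neutral`: a power of every point lies in the neutral component.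
-/

set_option autoImplicit false

universe u

open CategoryTheory CategoryTheory.Limits AlgebraicGeometry MonObj
open MonoidalCategory CartesianMonoidalCategory

namespace Groth.Agent.Sga7.H274.FieldPts

open Groth.Agent.Books.AlgPts

theorem isStrictlyHenselianLocalRing_field (k : Type u) [Field k] [IsSepClosed k] :
    EtCoh.IsStrictlyHenselianLocalRing k :=
  ⟨inferInstance, Groth.Agent.Etrest.SHPoint.isSepClosed_residueField k⟩

theorem residueField_natCast_ne_zero {K : Type u} [Field K] {m : ℕ} (hm : (m : K) ≠ 0)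
    (s : Spec (CommRingCat.of K)) : (m : (Spec (CommRingCat.of K)).residueField s) ≠ 0 := by
  let φ : K →+* (Spec (CommRingCat.of K)).residueField s :=
    (Spec.preimage ((Spec (CommRingCat.of K)).fromSpecResidueField s)).hom
  rw [← map_natCast φ]
  exact (map_ne_zero φ).mpr hm

variable {k : Type u} [Field k]

/-- Points of a smooth connected commutative group over a separably closed field are divisible by integers prime to
the characteristic. -/
theorem exists_root [IsSepClosed k] (G : Over (Spec (CommRingCat.of k))) [GrpObj G] [IsCommMonObj G] [Smooth G.hom]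
    [QuasiCompact G.hom] [ConnectedSpace G.left] (n : ℕ) (hn : (n : k) ≠ 0)
    (z : 𝟙_ (Over (Spec (CommRingCat.of k))) ⟶ G) : ∃ w : 𝟙_ (Over (Spec (CommRingCat.of k))) ⟶ G, w ^ n = z := by
  have hfl : Flat G.hom := inferInstance
  have hfp : LocallyOfFinitePresentation G.hom := inferInstance
  have het : Etale (𝟙 G ^ n).left := H751.PowEtale.etale_pow G n (residueField_natCast_ne_zero hn)
  obtain ⟨w, -, hw⟩ := H751.SecRoot.exists_root_mem_secUnitComp G (isStrictlyHenselianLocalRing_field k) n z (by
    have h1 : SGA7.specialFibreSet k G = Set.univ := by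
      ext y
      simp only [Set.mem_univ, iff_true]
      exact Subsingleton.elim (α := PrimeSpectrum k) _ _
    change z.left (IsLocalRing.closedPoint k) ∈ connectedComponentIn (SGA7.specialFibreSet k G) _
    rw [h1, connectedComponentIn_univ, PreconnectedSpace.connectedComponent_eq_univ]
    trivial)
  exact ⟨w, hw⟩

variable [IsAlgClosed k]

/-- A power of every point lies in the neutral component. -/
theorem exists_pow_neutral (A U : Over (Spec (CommRingCat.of k))) [GrpObj A] [GrpObj U] [LocallyOfFiniteType A.hom]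
    [QuasiCompact A.hom] (u : U ⟶ A) [IsMonHom u] [IsClosedImmersion u.left]
    (hu : Set.range u.left = connectedComponent (pt η[A])) :
    ∃ c : ℕ, 0 < c ∧ ∀ x : 𝟙_ (Over (Spec (CommRingCat.of k))) ⟶ A,
      ∃ y : 𝟙_ (Over (Spec (CommRingCat.of k))) ⟶ U, y ≫ u = x ^ c := by
  have hUft : LocallyOfFiniteType U.hom := by rw [← Over.w u]; infer_instance
  have hmem : ∀ x : 𝟙_ (Over (Spec (CommRingCat.of k))) ⟶ A, pt x ∈ connectedComponent (pt η[A]) →
      ∃ y : 𝟙_ (Over (Spec (CommRingCat.of k))) ⟶ U, y ≫ u = x := by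
    intro x hx
    rw [← hu] at hx
    exact exists_comp_eq_of_pt_mem_range u x hx
  let H0 : Subgroup (𝟙_ (Over (Spec (CommRingCat.of k))) ⟶ A) :=
    (H620.Special.postHom (𝟙_ (Over (Spec (CommRingCat.of k)))) u).range
  have hrel : ∀ x y : 𝟙_ (Over (Spec (CommRingCat.of k))) ⟶ A, pt y ∈ connectedComponent (pt x) →
      x⁻¹ * y ∈ H0 := by
    intro x y hy
    let f : A ⟶ A := (toUnit A ≫ x⁻¹) * 𝟙 A
    have hf : ∀ z : 𝟙_ (Over (Spec (CommRingCat.of k))) ⟶ A, z ≫ f = x⁻¹ * z := by
      intro z
      rw [MonObj.comp_mul, Category.comp_id, ← Category.assoc, toUnit_unique (z ≫ toUnit A) (𝟙 _), Category.id_comp]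
    have h1 := f.left.continuous.image_connectedComponent_subset (pt x)
    have h2 := h1 ⟨_, hy, rfl⟩
    rw [← pt_comp, ← pt_comp, hf, hf, inv_mul_cancel, ← MonObj.one_eq_one] at h2
    obtain ⟨w, hw⟩ := hmem _ h2
    exact ⟨w, hw⟩
  have hN1 : IsLocallyNoetherian A.left := LocallyOfFiniteType.isLocallyNoetherian A.hom
  have hN2 : CompactSpace A.left := QuasiCompact.compactSpace_of_compactSpace A.hom
  have hN3 : IsNoetherian A.left := { __ := hN1 }
  have hN4 : Finite (_root_.ConnectedComponents A.left) := H750.SecComp.finite_connectedComponents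
  have hfin : Finite ((𝟙_ (Over (Spec (CommRingCat.of k))) ⟶ A) ⧸ H0) := by
    refine Finite.of_injective (β := _root_.ConnectedComponents A.left)
      (fun q => ((pt q.out : A.left) : _root_.ConnectedComponents A.left)) ?_
    intro q q' hq
    have h1 : connectedComponent (pt q.out) = connectedComponent (pt q'.out) := ConnectedComponents.coe_eq_coe.mp hq
    rw [← q.out_eq', ← q'.out_eq', QuotientGroup.eq]
    exact hrel _ _ (by rw [h1]; exact mem_connectedComponent)
  have hidx : H0.index ≠ 0 := Subgroup.index_ne_zero_of_finite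
  refine ⟨H0.index.factorial, Nat.factorial_pos _, fun x => ?_⟩
  obtain ⟨n, hn, hn', hx⟩ := Subgroup.exists_pow_mem_of_index_ne_zero hidx x
  obtain ⟨m, hm⟩ := Nat.dvd_factorial hn hn'
  have h3 : x ^ H0.index.factorial ∈ H0 := by
    rw [hm, pow_mul]
    exact H0.pow_mem hx m
  obtain ⟨y, hy⟩ := h3
  exact ⟨y, hy⟩

/-- Roots of torsion points of a smooth connected commutative group. -/
theorem exists_root_torsion (G : Over (Spec (CommRingCat.of k))) [GrpObj G] [IsCommMonObj G] [Smooth G.hom]
    [QuasiCompact G.hom] [ConnectedSpace G.left] (l : ℕ) (hl : l.Prime) (hlk : (l : k) ≠ 0) (M : ℕ) (hM : 0 < M)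
    (n : ℕ) (z : 𝟙_ (Over (Spec (CommRingCat.of k))) ⟶ G) (hz : z ^ (l ^ n) = 1) :
    ∃ (m : ℕ) (w : 𝟙_ (Over (Spec (CommRingCat.of k))) ⟶ G), w ^ (l ^ m) = 1 ∧ w ^ M = z := by
  obtain ⟨a, M', hM', hMa⟩ := Nat.exists_eq_pow_mul_and_not_dvd hM.ne' l hl.ne_one
  obtain ⟨w, hw⟩ := exists_root G (l ^ a) (by rw [Nat.cast_pow]; exact pow_ne_zero _ hlk) z
  have hw' : w ^ (l ^ (a + n)) = 1 := by rw [pow_add, pow_mul, hw, hz]
  have hcop : (M').Coprime (orderOf w) :=
    (((Nat.Prime.coprime_iff_not_dvd hl).2 hM').symm.pow_right (a + n)).coprime_dvd_right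
      (orderOf_dvd_of_pow_eq_one hw')
  obtain ⟨m, hm⟩ := exists_pow_eq_self_of_coprime hcop
  refine ⟨a + n, w ^ m, ?_, ?_⟩
  · rw [← pow_mul, _root_.mul_comm, pow_mul, hw', one_pow]
  · rw [hMa, ← hw]
    conv_rhs => rw [← hm]
    rw [← pow_mul, ← pow_mul, ← pow_mul]
    congr 1
    ring

end Groth.Agent.Sga7.H274.FieldPts
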