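import Groth.Prelude.Def_SGA7IX
import Groth.Agent.Sga3B.RootHomDict
import Mathlib.AlgebraicGeometry.Morphisms.Proper
import Mathlib.RingTheory.Algebraic.MvPolynomial

/-!
# Good reduction implies semistable reduction

The additive group over a field is not proper, hence it is not a closed subgroup of a proper group.
-/

set_option autoImplicit false
universe u

open CategoryTheory CategoryTheory.Limits AlgebraicGeometry MonObj
open scoped Polynomial

namespace Groth.Agent.Sga7.H274.GoodSemi

open Groth.Agent.Sga3B Groth.Agent.Sga3B.RootHomDict Groth.Agent.Sga3B.AffPts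

theorem not_isProper_ga (k : Type u) [Field k] :
    ¬ IsProper (Red.Ga (Spec (CommRingCat.of k))).hom := by
  intro h
  have h1 : (gaFrom (R := k)).left ≫ (Red.Ga (Spec (CommRingCat.of k))).hom =
      Spec.map (CommRingCat.ofHom (algebraMap k k[X])) := Over.w (gaFrom (R := k))
  have : IsIso (gaFrom (R := k)) := ⟨gaTo, gaFrom_gaTo, gaTo_gaFrom⟩
  have h2 : IsProper (Spec.map (CommRingCat.ofHom (algebraMap k k[X]))) := by
    rw [← h1]
    have h6 : IsIso (gaFrom (R := k)).left :=
      inferInstanceAs (IsIso ((Over.forget _).map (gaFrom (R := k))))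
    have h7 : IsProper (gaFrom (R := k)).left := inferInstance
    exact MorphismProperty.comp_mem _ _ _ h7 h
  have h3 : IsFinite (Spec.map (CommRingCat.ofHom (algebraMap k k[X]))) :=
    (IsFinite.iff_isProper_and_isAffineHom).2 ⟨h2, inferInstance⟩
  rw [IsFinite.SpecMap_iff] at h3
  have h4 : Module.Finite k k[X] := RingHom.finite_algebraMap.1 h3
  have h5 : IsIntegral k (Polynomial.X : k[X]) := Algebra.IsIntegral.isIntegral _
  exact Polynomial.transcendental_X k h5.isAlgebraic

theorem fibresUnipotentRankZero_of_isProper {S : Scheme.{u}} (G : Over S) [GrpObj G] [IsProper G.hom] :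
    SGA7.FibresUnipotentRankZero G := by
  intro s j _ hj
  apply not_isProper_ga (AlgebraicClosure (S.residueField s))
  rw [← Over.w j]
  have : IsProper (Red.geomFibre s G).hom := by
    change IsProper (pullback.snd G.hom (Red.geomPt s))
    infer_instance
  infer_instance

theorem hasSemistableReduction_of_good {R K : Type u} [CommRing R] [Field K] [Algebra R K]
    {A : Over (Spec (CommRingCat.of K))} [GrpObj A] (h : SGA7.HasGoodReduction R K A) :
    SGA7.HasSemistableReduction R K A := by
  obtain ⟨B, iB, e, he, h1, h2, -⟩ := h
  exact ⟨B, iB, e, he, h2, inferInstance, inferInstance, fibresUnipotentRankZero_of_isProper B⟩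

end Groth.Agent.Sga7.H274.GoodSemi
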