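import Groth.Agent.Sga7.H274.ValExt
import Groth.Agent.Sga7.H274.Transport
import Groth.Agent.Sga7.H274.GoodSemi
import Mathlib.AlgebraicGeometry.Geometrically.Integral
import Mathlib.RingTheory.DedekindDomain.Factorization
import Mathlib.RingTheory.DedekindDomain.Dvr

/-!
# S4051 (semistable reduction over a Dedekind domain) from S4048, S4050 and gluing over the local rings
-/

set_option autoImplicit false
set_option linter.unusedSectionVars false

universe u

open CategoryTheory CategoryTheory.Limits AlgebraicGeometry MonObj IsDedekindDomain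

namespace Groth.Agent.Sga7.H274.S4051Asm

open ValConj ValExt Transport Groth.Agent.Sga7.H753.BaseExt

/-- The hard direction of S4048. -/
def Stmt4048Back : Prop :=
  ∀ (R K Ω : Type u) [CommRing R] [IsDomain R] [IsDiscreteValuationRing R] [Field K]
    [Algebra R K] [IsFractionRing R K] [Field Ω] [Algebra K Ω] [IsSepClosure K Ω]
    (W : ValuationSubring Ω) (_ : SGA7.LiesOver K R W)
    (ℓ : ℕ) (_ : ℓ.Prime) (_ : (ℓ : IsLocalRing.ResidueField R) ≠ 0)
    (A : Over (Spec (CommRingCat.of K))) [GrpObj A] [IsProper A.hom] [GeometricallyIntegral A.hom],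
    SGA7.InertiaLevelTwoOn W A ℓ → SGA7.HasSemistableReduction R K A

/-- The statement of S4050. -/
def Stmt4050 : Prop :=
  ∀ (R K Ω : Type u) [CommRing R] [IsDomain R] [IsDiscreteValuationRing R] [Field K]
    [Algebra R K] [IsFractionRing R K] [Field Ω] [Algebra K Ω] [IsSepClosure K Ω]
    (W : ValuationSubring Ω) (_ : SGA7.LiesOver K R W)
    (ℓ : ℕ) (_ : ℓ.Prime) (_ : (ℓ : IsLocalRing.ResidueField R) ≠ 0)
    (A : Over (Spec (CommRingCat.of K))) [GrpObj A] [IsProper A.hom] [GeometricallyIntegral A.hom],
    ∃ π' : OpenSubgroup (Ω ≃ₐ[K] Ω), ∀ (ν : ℕ) (σ τ : Ω ≃ₐ[K] Ω), σ ∈ π' → τ ∈ π' →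
      SGA7.IsInertia W σ → SGA7.IsInertia W τ →
        ∀ x : SGA7.Pts Ω A, x ^ (ℓ ^ ν) = 1 → SGA7.dev σ (SGA7.dev τ x) = 1

/-- Spreading out: good reduction at almost all maximal ideals. -/
def SpreadGood : Prop :=
  ∀ (R K : Type u) [CommRing R] [IsDedekindDomain R] [Field K] [Algebra R K] [IsFractionRing R K]
    (A : Over (Spec (CommRingCat.of K))) [GrpObj A] [IsProper A.hom] [GeometricallyIntegral A.hom],
    ∃ f : R, f ≠ 0 ∧ ∀ (q : Ideal R) [q.IsMaximal], f ∉ q → ∀ (S : Type u) [CommRing S] [Algebra R S]
      [IsLocalization.AtPrime S q] [Algebra S K] [IsScalarTower R S K], SGA7.HasGoodReduction S K A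

/-- Gluing: semistable reduction over a Dedekind domain from the one over all local rings. -/
def GlueSemi : Prop :=
  ∀ (R K : Type u) [CommRing R] [IsDedekindDomain R] [Field K] [Algebra R K] [IsFractionRing R K]
    (A : Over (Spec (CommRingCat.of K))) [GrpObj A] [IsProper A.hom] [GeometricallyIntegral A.hom]
    (_ : ∀ (q : Ideal R) [q.IsMaximal] (S : Type u) [CommRing S] [Algebra R S] [IsLocalization.AtPrime S q]
      [Algebra S K] [IsScalarTower R S K], SGA7.HasSemistableReduction S K A), SGA7.HasSemistableReduction R K A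

/-- In every field `2` or `3` is nonzero. -/
theorem exists_prime_ne_zero (k : Type u) [Field k] : ∃ ℓ : ℕ, ℓ.Prime ∧ (ℓ : k) ≠ 0 := by
  by_cases h : (2 : k) = 0
  · refine ⟨3, Nat.prime_three, fun h3 => ?_⟩
    have h1 : ((3 : ℕ) : k) = 2 + 1 := by norm_num
    rw [h1, h, _root_.zero_add] at h3
    exact one_ne_zero h3
  · exact ⟨2, Nat.prime_two, by exact_mod_cast h⟩

/-- `ℓ` is nonzero in the residue field of a local algebra over `R`. -/
theorem natCast_ne_zero {R S : Type u} [CommRing R] [IsLocalRing R] [CommRing S] [IsLocalRing S]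
    (f : R →+* S) (ℓ : ℕ) (hℓp : (ℓ : IsLocalRing.ResidueField R) ≠ 0) :
    (ℓ : IsLocalRing.ResidueField S) ≠ 0 := by
  have hu : IsUnit (ℓ : R) := by
    by_contra hcon
    apply hℓp
    have : IsLocalRing.residue R (ℓ : R) = 0 := (IsLocalRing.residue_eq_zero_iff _).2 hcon
    rwa [map_natCast] at this
  have hu' : IsUnit (ℓ : S) := by
    have h1 := hu.map f
    rwa [map_natCast] at h1
  have h2 := hu'.map (IsLocalRing.residue S)
  rw [map_natCast] at h2
  exact h2.ne_zero

/-- The local homomorphism between local rings at a prime and at its trace. -/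
theorem exists_localHom {R R' : Type u} [CommRing R] [CommRing R'] [Algebra R R'] (q : Ideal R')
    [q.IsPrime] (p : Ideal R) [p.IsPrime] (h : q.under R = p) (R₁ S : Type u) [CommRing R₁]
    [Algebra R R₁] [IsLocalization.AtPrime R₁ p] [CommRing S] [Algebra R' S]
    [IsLocalization.AtPrime S q] :
    ∃ g : R₁ →+* S, IsLocalHom g ∧ ∀ r : R, g (algebraMap R R₁ r) = algebraMap R' S (algebraMap R R' r) := by
  have hp : ∀ r : R, algebraMap R R' r ∈ q ↔ r ∈ p := by
    intro r
    rw [← h]
    rfl
  have hunit : ∀ y : p.primeCompl, IsUnit (((algebraMap R' S).comp (algebraMap R R')) y) := by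
    intro y
    have hy : (y : R) ∉ p := y.2
    exact IsLocalization.map_units S (⟨algebraMap R R' y, fun h1 => hy ((hp _).1 h1)⟩ : q.primeCompl)
  let g : R₁ →+* S := IsLocalization.lift hunit
  have hg : ∀ r : R, g (algebraMap R R₁ r) = algebraMap R' S (algebraMap R R' r) := fun r =>
    IsLocalization.lift_eq hunit r
  refine ⟨g, ⟨fun a ha => ?_⟩, hg⟩
  obtain ⟨r, s, rfl⟩ := IsLocalization.exists_mk'_eq p.primeCompl a
  have h1 : g (IsLocalization.mk' R₁ r s) * g (algebraMap R R₁ s) = g (algebraMap R R₁ r) := by
    rw [← map_mul, IsLocalization.mk'_spec]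
  have h2 : IsUnit (g (algebraMap R R₁ r)) := by
    rw [← h1]
    exact ha.mul (by rw [hg]; exact hunit s)
  rw [hg, IsLocalization.AtPrime.isUnit_to_map_iff S q] at h2
  have h3 : r ∉ p := fun h4 => h2 ((hp r).2 h4)
  have h5 : IsUnit (algebraMap R R₁ r) :=
    (IsLocalization.AtPrime.isUnit_to_map_iff R₁ p r).2 h3
  rw [← IsLocalization.mk'_spec R₁ r s] at h5
  exact isUnit_of_mul_isUnit_left h5

/-- The localization homomorphism is compatible with the maps to the fields. -/
theorem localHom_compat {R R' : Type u} [CommRing R] [CommRing R'] [Algebra R R'] (p : Ideal R)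
    [p.IsPrime] {R₁ S K L : Type u} [CommRing R₁] [Algebra R R₁] [IsLocalization.AtPrime R₁ p] [CommRing S]
    [Algebra R' S] [Field K] [Field L] [Algebra K L] [Algebra R K] [Algebra R₁ K] [IsScalarTower R R₁ K]
    [Algebra S L] [Algebra R' L] [IsScalarTower R' S L]
    (hc : ∀ r : R, algebraMap R' L (algebraMap R R' r) = algebraMap K L (algebraMap R K r))
    {g : R₁ →+* S} (hg : ∀ r : R, g (algebraMap R R₁ r) = algebraMap R' S (algebraMap R R' r))
    (x : R₁) : algebraMap S L (g x) = algebraMap K L (algebraMap R₁ K x) := by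
  have h1 : (algebraMap S L).comp g = (algebraMap K L).comp (algebraMap R₁ K) := by
    apply IsLocalization.ringHom_ext p.primeCompl
    ext r
    change algebraMap S L (g (algebraMap R R₁ r)) = algebraMap K L (algebraMap R₁ K (algebraMap R R₁ r))
    rw [hg, ← IsScalarTower.algebraMap_apply R' S L, ← IsScalarTower.algebraMap_apply R R₁ K, hc]
  exact RingHom.congr_fun h1 x

/-- The algebra structure of the localization on the fraction field. -/
theorem exists_algebra_atPrime {R K : Type u} [CommRing R] [IsDomain R] [Field K] [Algebra R K]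
    [IsFractionRing R K] (p : Ideal R) [p.IsPrime] :
    ∃ _ : Algebra (Localization.AtPrime p) K, IsScalarTower R (Localization.AtPrime p) K := by
  have hunit : ∀ y : p.primeCompl, IsUnit (algebraMap R K y) := by
    intro y
    refine (IsUnit.mk0 _ ?_)
    rw [ne_eq, IsFractionRing.to_map_eq_zero_iff]
    intro h
    exact y.2 (by rw [h]; exact p.zero_mem)
  let a : Algebra (Localization.AtPrime p) K :=
    (IsLocalization.lift (M := p.primeCompl) (S := Localization.AtPrime p) hunit).toAlgebra
  exact ⟨a, IsScalarTower.of_algebraMap_eq fun r => (IsLocalization.lift_eq hunit r).symm⟩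

section

variable {R K L : Type u} [CommRing R] [IsDedekindDomain R] [Field K] [Algebra R K] [IsFractionRing R K]
  [Field L] [Algebra K L] [Algebra R L] [IsScalarTower R K L]
  (A : Over (Spec (CommRingCat.of K))) [GrpObj A]

/-- Good reduction of `A_L` at the primes over a prime of good reduction of `A`. -/
theorem good_of_good (p : Ideal R) [p.IsPrime]
    (hA : ∀ (S : Type u) [CommRing S] [Algebra R S] [IsLocalization.AtPrime S p] [Algebra S K]
      [IsScalarTower R S K], SGA7.HasGoodReduction S K A)
    (q : Ideal (integralClosure R L)) [q.IsPrime] (h : q.under R = p) (S : Type u) [CommRing S]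
    [Algebra (integralClosure R L) S] [IsLocalization.AtPrime S q] [Algebra S L]
    [IsScalarTower (integralClosure R L) S L] :
    SGA7.HasGoodReduction S L (Red.bc (fKL K L) A) := by
  obtain ⟨a1, a2⟩ := exists_algebra_atPrime (R := R) (K := K) p
  obtain ⟨g, -, hg⟩ := exists_localHom q p h (Localization.AtPrime p) S
  have hc : ∀ r : R, algebraMap (integralClosure R L) L (algebraMap R (integralClosure R L) r) =
      algebraMap K L (algebraMap R K r) := by
    intro r
    rw [← IsScalarTower.algebraMap_apply R K L]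
    rfl
  exact hasGoodReduction_bc g (algebraMap K L) (localHom_compat p hc hg) (hA (Localization.AtPrime p))

variable [IsProper A.hom] [GeometricallyIntegral A.hom] [FiniteDimensional K L]

/-- Semistable reduction of `A_L` at the primes over `p`, from the open subgroup of S4050 at `p`. -/
theorem semistable_of_level (h48 : Stmt4048Back.{u}) [IsGalois K L] (p : Ideal R) [p.IsPrime] (hp0 : p ≠ ⊥)
    {Ω : Type u} [Field Ω] [Algebra K Ω] [IsSepClosure K Ω] [Algebra L Ω] [IsScalarTower K L Ω]
    (R₁ : Type u) [CommRing R₁] [IsDomain R₁] [IsDiscreteValuationRing R₁] [Algebra R R₁] [IsLocalization.AtPrime R₁ p]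
    [Algebra R₁ K] [IsScalarTower R R₁ K] [IsFractionRing R₁ K] {W : ValuationSubring Ω}
    (hW : SGA7.LiesOver K R₁ W) (ℓ : ℕ) (hℓ : ℓ.Prime) (hℓp : (ℓ : IsLocalRing.ResidueField R₁) ≠ 0)
    (hlev : ∀ (ν : ℕ) (σ τ : Ω ≃ₐ[L] Ω), SGA7.IsInertia W σ → SGA7.IsInertia W τ →
        ∀ x : SGA7.Pts (K := K) Ω A, x ^ (ℓ ^ ν) = 1 →
          SGA7.dev (σ.restrictScalars K) (SGA7.dev (τ.restrictScalars K) x) = 1)
    (q : Ideal (integralClosure R L)) [q.IsPrime] (h : q.under R = p) (S : Type u) [CommRing S]
    [Algebra (integralClosure R L) S] [IsLocalization.AtPrime S q] [Algebra S L]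
    [IsScalarTower (integralClosure R L) S L] :
    SGA7.HasSemistableReduction S L (Red.bc (fKL K L) A) := by
  have hfr : IsFractionRing (integralClosure R L) L :=
    integralClosure.isFractionRing_of_finite_extension K L
  have hded : IsDedekindDomain (integralClosure R L) := integralClosure.isDedekindDomain R K L
  have hP : IsProper (Red.bc (fKL K L) A).hom := by
    change IsProper (pullback.snd A.hom _)
    infer_instance
  have hGI : GeometricallyIntegral (Red.bc (fKL K L) A).hom := by
    change GeometricallyIntegral (pullback.snd A.hom _)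
    infer_instance
  have hsep : Algebra.IsSeparable K Ω := IsSepClosure.separable
  have hgal : IsGalois K Ω := inferInstance
  have : IsSepClosure L Ω := ⟨IsSepClosure.sep_closed K,
    Algebra.isSeparable_tower_top_of_isSeparable K L Ω⟩
  have hle : q.primeCompl ≤ nonZeroDivisors (integralClosure R L) := q.primeCompl_le_nonZeroDivisors
  have hfrS : IsFractionRing S L :=
    IsFractionRing.isFractionRing_of_isDomain_of_isLocalization q.primeCompl S L
  have hinj : Function.Injective (algebraMap R (integralClosure R L)) := by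
    intro a b hab
    have h1 := congrArg (algebraMap (integralClosure R L) L) hab
    have h2 : algebraMap R L a = algebraMap R L b := h1
    rw [IsScalarTower.algebraMap_apply R K L, IsScalarTower.algebraMap_apply R K L] at h2
    exact IsFractionRing.injective R K ((algebraMap K L).injective h2)
  have hq0 : q ≠ ⊥ := by
    rintro rfl
    apply hp0
    rw [← h]
    exact Ideal.comap_bot_of_injective _ hinj
  have : IsDomain S := IsLocalization.isDomain_of_le_nonZeroDivisors S hle
  have : IsDiscreteValuationRing S :=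
    IsLocalization.AtPrime.isDiscreteValuationRing_of_dedekind_domain _ hq0 S
  obtain ⟨g, hgl, hg⟩ := exists_localHom q p h R₁ S
  have hc : ∀ r : R, algebraMap (integralClosure R L) L (algebraMap R (integralClosure R L) r) =
      algebraMap K L (algebraMap R K r) := by
    intro r
    rw [← IsScalarTower.algebraMap_apply R K L]
    rfl
  have hcompat := localHom_compat p hc hg
  obtain ⟨W', hW'⟩ := exists_liesOver L S Ω
  have hW'K : SGA7.LiesOver K R₁ W' := liesOver_tower g hcompat hW'
  exact h48 S L Ω W' hW' ℓ hℓ (natCast_ne_zero g ℓ hℓp) _ (levelTwo_all hW A ℓ hlev hW'K)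

end

/-- At a maximal ideal `p` there is an open subgroup of the Galois group such that semistable reduction at all the
primes over `p` is acquired over all the finite Galois extensions it contains. -/
theorem exists_openSubgroup (h48 : Stmt4048Back.{u}) (h50 : Stmt4050.{u}) (R K Ω : Type u) [CommRing R]
    [IsDedekindDomain R] [Field K] [Algebra R K] [IsFractionRing R K] [Field Ω] [Algebra K Ω] [IsSepClosure K Ω]
    (A : Over (Spec (CommRingCat.of K))) [GrpObj A] [IsProper A.hom] [GeometricallyIntegral A.hom]
    (p : Ideal R) [p.IsPrime] (hp0 : p ≠ ⊥) :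
    ∃ π' : OpenSubgroup (Ω ≃ₐ[K] Ω), ∀ (L : Type u) [Field L] [Algebra K L] [Algebra L Ω] [IsScalarTower K L Ω]
      [Algebra R L] [IsScalarTower R K L] [FiniteDimensional K L] [IsGalois K L],
      (∀ σ : Ω ≃ₐ[L] Ω, σ.restrictScalars K ∈ π') →
      ∀ (q : Ideal (integralClosure R L)) [q.IsPrime], q.under R = p → ∀ (S : Type u) [CommRing S]
        [Algebra (integralClosure R L) S] [IsLocalization.AtPrime S q] [Algebra S L]
        [IsScalarTower (integralClosure R L) S L],
        SGA7.HasSemistableReduction S L (Red.bc (fKL K L) A) := by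
  obtain ⟨a1, a2⟩ := exists_algebra_atPrime (R := R) (K := K) p
  let R₁ := Localization.AtPrime p
  have : IsFractionRing R₁ K :=
    IsFractionRing.isFractionRing_of_isDomain_of_isLocalization p.primeCompl R₁ K
  have : IsDiscreteValuationRing R₁ :=
    IsLocalization.AtPrime.isDiscreteValuationRing_of_dedekind_domain _ hp0 R₁
  obtain ⟨W, hW⟩ := exists_liesOver K R₁ Ω
  obtain ⟨ℓ, hℓ, hℓp⟩ := exists_prime_ne_zero (IsLocalRing.ResidueField R₁)
  obtain ⟨π', hπ⟩ := h50 R₁ K Ω W hW ℓ hℓ hℓp A
  refine ⟨π', ?_⟩
  intro L _ _ _ _ _ _ _ _ hL q _ hq S _ _ _ _ _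
  refine semistable_of_level A h48 p hp0 R₁ hW ℓ hℓ hℓp ?_ q hq S
  intro ν σ τ hσ hτ x hx
  exact hπ ν _ _ (hL σ) (hL τ) hσ hτ x hx

/-- **S4051** from S4048 (the hard direction), S4050, spreading out and gluing. -/
theorem main (h48 : Stmt4048Back.{u}) (h50 : Stmt4050.{u}) (hS : SpreadGood.{u}) (hG : GlueSemi.{u})
    (R K : Type u) [CommRing R] [IsDedekindDomain R] [Field K]
    [Algebra R K] [IsFractionRing R K]
    (A : Over (Spec (CommRingCat.of K))) [GrpObj A] [IsProper A.hom] [GeometricallyIntegral A.hom] :
    ∃ (K' : Type u) (_ : Field K') (_ : Algebra K K') (_ : Algebra R K')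
      (_ : IsScalarTower R K K') (_ : FiniteDimensional K K') (_ : IsGalois K K'),
      SGA7.HasSemistableReduction (integralClosure R K') K'
        (Red.bc (Spec.map (CommRingCat.ofHom (algebraMap K K'))) A) := by
  let Ω := SeparableClosure K
  have : Algebra.IsSeparable K Ω := IsSepClosure.separable
  have hgal : IsGalois K Ω := inferInstance
  obtain ⟨f, hf0, hf⟩ := hS R K A
  have key := fun P : HeightOneSpectrum R =>
    exists_openSubgroup h48 h50 R K Ω A P.asIdeal P.ne_bot
  choose π hπ using key
  have hfin : {P : HeightOneSpectrum R | f ∈ P.asIdeal}.Finite := by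
    have h1 := Ideal.finite_factors (I := Ideal.span {f}) (by simpa using hf0)
    refine h1.subset fun P hP => ?_
    rw [Set.mem_ofPred_eq, Ideal.dvd_span_singleton]
    exact hP
  obtain ⟨π', hπ'⟩ := exists_le_finset _ hfin π
  obtain ⟨L, hL1, hL2, hL3⟩ := exists_galois_le π'
  let _ : Algebra R L := ((algebraMap K L).comp (algebraMap R K)).toAlgebra
  have : IsScalarTower R K L := IsScalarTower.of_algebraMap_eq (fun _ => rfl)
  refine ⟨L, inferInstance, inferInstance, inferInstance, inferInstance, hL1, hL2, ?_⟩
  have hfr : IsFractionRing (integralClosure R L) L :=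
    integralClosure.isFractionRing_of_finite_extension K L
  have hded : IsDedekindDomain (integralClosure R L) := integralClosure.isDedekindDomain R K L
  have hP : IsProper (Red.bc (fKL K L) A).hom := by
    change IsProper (pullback.snd A.hom _)
    infer_instance
  have hGI : GeometricallyIntegral (Red.bc (fKL K L) A).hom := by
    change GeometricallyIntegral (pullback.snd A.hom _)
    infer_instance
  refine hG (integralClosure R L) L _ ?_
  intro q _ S _ _ _ _ _
  have hmax : (q.under R).IsMaximal := Ideal.isMaximal_comap_of_isIntegral_of_isMaximal q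
  by_cases hfq : f ∈ q.under R
  · have hne : q.under R ≠ ⊥ := by
      intro h0
      rw [h0, Ideal.mem_bot] at hfq
      exact hf0 hfq
    let P : HeightOneSpectrum R := ⟨q.under R, inferInstance, hne⟩
    exact hπ P L (fun σ => hπ' P hfq (hL3 σ)) q rfl S
  · exact GoodSemi.hasSemistableReduction_of_good
      (good_of_good A (q.under R) (fun S' _ _ _ _ _ => hf (q.under R) hfq S') q rfl S)

end Groth.Agent.Sga7.H274.S4051Asm
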