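import Groth.Agent.Sga7.H620.Neutral
import Groth.Agent.Sga7.H751.SecRoot
import Groth.Agent.Desc.LQF
import Groth.Agent.Books.AlgPts
import Groth.Agent.Sga1.EtaleSection

/-!
# Lifting torsion points of the geometric special fibre

* `exists_section_of_point`: geometric points over the closed point of an étale scheme over a strictly henselian local
  ring lift to sections.
* `exists_torsion_lift`: `n`-torsion points of the geometric special fibre of a group scheme whose `n`-th power map is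
  étale lift to `n`-torsion sections.
-/

set_option autoImplicit false

universe u

open CategoryTheory CategoryTheory.Limits AlgebraicGeometry MonObj
open MonoidalCategory CartesianMonoidalCategory

namespace Groth.Agent.Sga7.H274.TorsLift

open Groth.Agent.Sga7.H620.Neutral

/-- Geometric points over the closed point of an étale scheme over a strictly henselian local ring lift to
sections. -/
theorem exists_section_of_point {R : Type u} [CommRing R] [IsLocalRing R]
    (hR : EtCoh.IsStrictlyHenselianLocalRing R) {X : Scheme.{u}} (p : X ⟶ Spec (CommRingCat.of R)) [Etale p]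
    {F : Type u} [Field F] (t : Spec (CommRingCat.of F) ⟶ Spec (CommRingCat.of R))
    (ht : t (IsLocalRing.closedPoint F) = IsLocalRing.closedPoint R)
    (x : Spec (CommRingCat.of F) ⟶ X) (hx : x ≫ p = t) :
    ∃ a : Spec (CommRingCat.of R) ⟶ X, a ≫ p = 𝟙 _ ∧ t ≫ a = x := by
  have hlqf : LocallyQuasiFinite p := Desc.LQF.of_etale p
  set c : X := x (IsLocalRing.closedPoint F) with hc
  have hpc : p c = IsLocalRing.closedPoint R := by
    rw [hc, ← Scheme.Hom.comp_apply, hx, ht]
  obtain ⟨O, hO, hOc⟩ : ∃ O : Set X, IsOpen O ∧ O ∩ p ⁻¹' {IsLocalRing.closedPoint R} = {c} := by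
    have h1 := (p.isDiscrete_preimage_singleton (IsLocalRing.closedPoint R))
    have h2 := h1.to_subtype
    have h3 : IsOpen ({⟨c, hpc⟩} : Set (p ⁻¹' {IsLocalRing.closedPoint R} : Set X)) := isOpen_discrete _
    obtain ⟨O, hO, hO'⟩ := isOpen_induced_iff.mp h3
    refine ⟨O, hO, ?_⟩
    ext z
    constructor
    · rintro ⟨hz1, hz2⟩
      have h4 : (⟨z, hz2⟩ : (p ⁻¹' {IsLocalRing.closedPoint R} : Set X)) ∈ Subtype.val ⁻¹' O := hz1
      rw [hO'] at h4
      exact congrArg Subtype.val h4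
    · rintro rfl
      have h4 : (⟨c, hpc⟩ : (p ⁻¹' {IsLocalRing.closedPoint R} : Set X)) ∈ Subtype.val ⁻¹' O := by
        rw [hO']; rfl
      exact ⟨h4, hpc⟩
  have hcO : c ∈ O := (hOc.ge rfl).1
  obtain ⟨a, ha, haO⟩ := Dix.NeronEllPts.exists_section hR p c hpc O hO hcO
  have hac : a (IsLocalRing.closedPoint R) = c := by
    have h5 : a (IsLocalRing.closedPoint R) ∈ O ∩ p ⁻¹' {IsLocalRing.closedPoint R} := by
      refine ⟨haO, ?_⟩
      change p (a (IsLocalRing.closedPoint R)) = _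
      rw [← Scheme.Hom.comp_apply, ha]
      rfl
    rwa [hOc] at h5
  refine ⟨a, ha, ?_⟩
  have h6 := Sga1.EtaleSection.eq_comp_section p a ha x (by
    rintro _ ⟨y, rfl⟩
    obtain rfl : y = IsLocalRing.closedPoint F := Subsingleton.elim (α := PrimeSpectrum F) _ _
    exact ⟨_, hac⟩)
  rw [h6, hx]

section

variable {S S' : Scheme.{u}} (t : S' ⟶ S) (N : Over S) [GrpObj N]

omit [GrpObj N] in
theorem map_toUnit_comp_left (w : 𝟙_ (Over S) ⟶ N) :
    (toUnit ((Over.map t).obj (𝟙_ (Over S'))) ≫ w).left = t ≫ w.left := by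
  rw [Over.comp_left]
  have h : (toUnit ((Over.map t).obj (𝟙_ (Over S')))).left = t := by
    have h1 := Over.w (toUnit ((Over.map t).obj (𝟙_ (Over S'))))
    have h2 : ((Over.map t).obj (𝟙_ (Over S'))).hom = t := by
      change 𝟙 _ ≫ t = t
      rw [Category.id_comp]
    rw [h2] at h1
    have h3 : (𝟙_ (Over S)).hom = 𝟙 S := rfl
    rw [h3] at h1
    exact (Category.comp_id _).symm.trans h1
  rw [h]

theorem bcPt_eq_iff (w : 𝟙_ (Over S) ⟶ N) (z : 𝟙_ (Over S') ⟶ Red.bc t N) :
    bcPt t N w = z ↔ t ≫ w.left = ((Sga3B.BcPts.bcEquiv t (𝟙_ (Over S')) N).symm z).left := by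
  have h1 : bcPt t N w = Sga3B.BcPts.bcEquiv t (𝟙_ (Over S')) N
    (toUnit ((Over.map t).obj (𝟙_ (Over S'))) ≫ w) := rfl
  rw [h1, ← map_toUnit_comp_left, ← Equiv.eq_symm_apply]
  constructor
  · intro h; rw [h]
  · intro h; ext1; exact h

end

/-- The points of the base change of a section. -/
theorem bcPt_comp {S S' : Scheme.{u}} (t : S' ⟶ S) {N P : Over S} [GrpObj N] [GrpObj P] (f : N ⟶ P)
    (w : 𝟙_ (Over S) ⟶ N) : bcPt t P (w ≫ f) = bcPt t N w ≫ (Over.pullback t).map f := by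
  rw [bcPt_apply, bcPt_apply, Functor.map_comp, Category.assoc]

/-- Torsion points of the geometric special fibre lift to torsion sections. -/
theorem exists_torsion_lift {R : Type u} [CommRing R] [IsLocalRing R]
    (hR : EtCoh.IsStrictlyHenselianLocalRing R) (N : Over (Spec (CommRingCat.of R))) [GrpObj N] (n : ℕ)
    [Etale ((𝟙 N : N ⟶ N) ^ n).left]
    {F : Type u} [Field F] (t : Spec (CommRingCat.of F) ⟶ Spec (CommRingCat.of R))
    (ht : t (IsLocalRing.closedPoint F) = IsLocalRing.closedPoint R)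
    (z : 𝟙_ (Over (Spec (CommRingCat.of F))) ⟶ Red.bc t N) (hz : z ^ n = 1) :
    ∃ w : 𝟙_ (Over (Spec (CommRingCat.of R))) ⟶ N, w ^ n = 1 ∧ bcPt t N w = z := by
  let x : (Over.map t).obj (𝟙_ (Over (Spec (CommRingCat.of F)))) ⟶ N :=
    (Sga3B.BcPts.bcEquiv t (𝟙_ (Over (Spec (CommRingCat.of F)))) N).symm z
  have hx : x ^ n = 1 := by
    have h1 := map_pow (Sga3B.BcPts.bcMulEquiv t (𝟙_ (Over (Spec (CommRingCat.of F)))) N).symm z n
    rw [hz, map_one] at h1
    exact h1.symm
  let x' : Spec (CommRingCat.of F) ⟶ N.left := x.left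
  have hx' : x' ≫ N.hom = t := by
    have h1 : x.left ≫ N.hom = ((Over.map t).obj (𝟙_ (Over (Spec (CommRingCat.of F))))).hom := Over.w x
    refine h1.trans ?_
    change 𝟙 _ ≫ t = t
    rw [Category.id_comp]
  let p : pullback ((𝟙 N : N ⟶ N) ^ n).left (η[N] : 𝟙_ (Over (Spec (CommRingCat.of R))) ⟶ N).left ⟶
    Spec (CommRingCat.of R) := pullback.snd _ _
  have hp : Etale p := inferInstanceAs (Etale (pullback.snd ((𝟙 N : N ⟶ N) ^ n).left
    (η[N] : 𝟙_ (Over (Spec (CommRingCat.of R))) ⟶ N).left))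
  have h2 : x' ≫ ((𝟙 N : N ⟶ N) ^ n).left = t ≫ (η[N] : 𝟙_ (Over (Spec (CommRingCat.of R))) ⟶ N).left := by
    have h3 : x ≫ (𝟙 N : N ⟶ N) ^ n = toUnit _ ≫ η[N] := by
      rw [MonObj.comp_pow, Category.comp_id, hx, Hom.one_def]
    have h4 := congrArg (fun f => f.left) h3
    rw [map_toUnit_comp_left, Over.comp_left] at h4
    exact h4
  obtain ⟨a, ha, ha'⟩ := exists_section_of_point hR p t ht (pullback.lift x' t h2) (pullback.lift_snd _ _ _)
  have h5 : (a ≫ pullback.fst _ _) ≫ ((𝟙 N : N ⟶ N) ^ n).left =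
      (η[N] : 𝟙_ (Over (Spec (CommRingCat.of R))) ⟶ N).left := by
    rw [Category.assoc, pullback.condition]
    have h6 : a ≫ pullback.snd ((𝟙 N : N ⟶ N) ^ n).left (η[N] : 𝟙_ (Over (Spec (CommRingCat.of R))) ⟶ N).left =
      𝟙 _ := ha
    rw [reassoc_of% h6]
  let w : 𝟙_ (Over (Spec (CommRingCat.of R))) ⟶ N := Over.homMk (a ≫ pullback.fst _ _) (by
    have h7 := Over.w ((𝟙 N : N ⟶ N) ^ n)
    rw [← h7, ← Category.assoc, h5]
    exact Over.w _)
  refine ⟨w, ?_, ?_⟩
  · have h8 : w ≫ (𝟙 N : N ⟶ N) ^ n = w ^ n := by rw [MonObj.comp_pow, Category.comp_id]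
    rw [← h8, ← MonObj.one_eq_one]
    ext1
    rw [Over.comp_left]
    exact h5
  · rw [bcPt_eq_iff]
    change t ≫ a ≫ pullback.fst _ _ = x'
    rw [reassoc_of% ha', pullback.lift_fst]

end Groth.Agent.Sga7.H274.TorsLift
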