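import Groth.Agent.Sga7.H274.ValConj
import Groth.Agent.Sga7.H753.BaseExt
import Mathlib.FieldTheory.IsSepClosed
import Mathlib.FieldTheory.Galois.Infinite
import Mathlib.RingTheory.Valuation.LocalSubring

/-!
# Valuation subrings above a local ring: existence and towers; open subgroups

* `exists_liesOver`: existence of valuation subrings over a local ring;
* `liesOver_tower`: towers `(R, K) → (R₁, L) → Ω`;
* `exists_galois_le`: every open subgroup of `Aut(Ω/K)` contains `Aut(Ω/L)` with `L/K` finite Galois;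
* `conjRestrict`: conjugation of `L`-automorphisms by `K`-automorphisms (`L/K` normal);
* `levelTwo_all`, `trivial_all`: if the level-two (resp. trivial action) condition at one `W | R` holds on an open subgroup
  containing `Aut(Ω/L)`, `L/K` normal, then `A_L` satisfies it at all `W' | R`.
-/

set_option autoImplicit false
set_option linter.unusedSectionVars false

universe u

open CategoryTheory CategoryTheory.Limits AlgebraicGeometry MonObj

namespace Groth.Agent.Sga7.H274.ValExt

open ValConj Groth.Agent.Sga7.H753.BaseExt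

/-- Existence of valuation subrings over a local ring. -/
theorem exists_liesOver (K R Ω : Type u) [Field K] [CommRing R] [IsLocalRing R] [Algebra R K] [Field Ω]
    [Algebra K Ω] : ∃ W : ValuationSubring Ω, SGA7.LiesOver K R W := by
  obtain ⟨W, h, hloc⟩ := IsLocalRing.exists_factor_valuationRing
    ((algebraMap K Ω).comp (algebraMap R K))
  refine ⟨W, fun r => h r, fun r hr => ?_⟩
  have h1 : ¬ IsUnit ((((algebraMap K Ω).comp (algebraMap R K)).codRestrict W.toSubring h) r) :=
    fun hu => (IsLocalRing.mem_maximalIdeal r).1 hr (isUnit_of_map_unit _ r hu)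
  have h2 := (W.valuation_lt_one_iff
    ((((algebraMap K Ω).comp (algebraMap R K)).codRestrict W.toSubring h) r)).1
      ((IsLocalRing.mem_maximalIdeal _).2 h1)
  exact h2

/-- Towers. -/
theorem liesOver_tower {R K R₁ L Ω : Type u} [CommRing R] [IsLocalRing R] [Field K] [Algebra R K]
    [CommRing R₁] [IsLocalRing R₁] [Field L] [Algebra R₁ L] [Field Ω] [Algebra K L] [Algebra K Ω]
    [Algebra L Ω] [IsScalarTower K L Ω] (f : R →+* R₁) [IsLocalHom f]
    (hf : ∀ r, algebraMap R₁ L (f r) = algebraMap K L (algebraMap R K r))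
    {W : ValuationSubring Ω} (hW : SGA7.LiesOver L R₁ W) : SGA7.LiesOver K R W := by
  constructor
  · intro r
    rw [IsScalarTower.algebraMap_apply K L Ω, ← hf]
    exact hW.1 _
  · intro r hr
    rw [IsScalarTower.algebraMap_apply K L Ω, ← hf]
    apply hW.2
    rw [IsLocalRing.mem_maximalIdeal] at hr ⊢
    exact fun hu => hr (isUnit_of_map_unit f r hu)

section Gal

variable {K Ω : Type u} [Field K] [Field Ω] [Algebra K Ω] [IsGalois K Ω]

/-- Every open subgroup of the Galois group contains the one of a finite Galois extension. -/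
theorem exists_galois_le (π' : OpenSubgroup (Ω ≃ₐ[K] Ω)) :
    ∃ L : IntermediateField K Ω, FiniteDimensional K L ∧ IsGalois K L ∧
      ∀ σ : Ω ≃ₐ[L] Ω, σ.restrictScalars K ∈ π' := by
  obtain ⟨E, hE1, hE2, hE3⟩ := (krullTopology_mem_nhds_one_iff_of_normal K Ω
    (π' : Set (Ω ≃ₐ[K] Ω))).1 (π'.isOpen.mem_nhds π'.one_mem)
  have : Algebra.IsSeparable K E := inferInstance
  refine ⟨E, hE1, ⟨⟩, fun σ => hE3 ?_⟩
  change σ.restrictScalars K ∈ E.fixingSubgroup
  rw [IntermediateField.mem_fixingSubgroup_iff]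
  intro z hz
  exact σ.commutes (⟨z, hz⟩ : E)

/-- A finite intersection of open subgroups is an open subgroup. -/
theorem exists_le_finset {α : Type*} (s : Set α) (hs : s.Finite) (π : α → OpenSubgroup (Ω ≃ₐ[K] Ω)) :
    ∃ π' : OpenSubgroup (Ω ≃ₐ[K] Ω), ∀ i ∈ s, π' ≤ π i := by
  induction s, hs using Set.Finite.induction_on with
  | empty => exact ⟨⊤, fun i hi => absurd hi (Set.notMem_empty i)⟩
  | insert _ _ ih =>
    rename_i a s ha hs
    obtain ⟨π', h⟩ := ih
    refine ⟨π a ⊓ π', ?_⟩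
    rintro i (rfl | hi)
    · exact inf_le_left
    · exact inf_le_right.trans (h i hi)

end Gal

section Restrict

variable {K L Ω : Type u} [Field K] [Field L] [Field Ω] [Algebra K L] [Algebra K Ω] [Algebra L Ω]
  [IsScalarTower K L Ω]

/-- Conjugates of `L`-automorphisms by `K`-automorphisms are `L`-automorphisms, `L/K` normal. -/
theorem exists_conjRestrict [Normal K L] (τ : Ω ≃ₐ[K] Ω) (σ : Ω ≃ₐ[L] Ω) :
    ∃ ρ : Ω ≃ₐ[L] Ω, ρ.restrictScalars K = τ⁻¹ * σ.restrictScalars K * τ := by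
  have hfix : ∀ k : L, (τ⁻¹ * σ.restrictScalars K * τ) (algebraMap L Ω k) = algebraMap L Ω k := by
    intro k
    have h1 : ∃ k' : L, τ (algebraMap L Ω k) = algebraMap L Ω k' := by
      refine ⟨τ.restrictNormal L k, ?_⟩
      rw [AlgEquiv.restrictNormal_commutes]
    obtain ⟨k', hk'⟩ := h1
    change τ⁻¹ (σ (τ (algebraMap L Ω k))) = _
    rw [hk', AlgEquiv.commutes, ← hk']
    simp
  refine ⟨AlgEquiv.ofRingEquiv (f := (τ⁻¹ * σ.restrictScalars K * τ).toRingEquiv) hfix, ?_⟩
  ext z
  rfl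

theorem isInertia_restrictScalars (W : ValuationSubring Ω) (σ : Ω ≃ₐ[L] Ω) :
    SGA7.IsInertia W (σ.restrictScalars K) ↔ SGA7.IsInertia W σ := Iff.rfl

variable {R : Type u} [CommRing R] [IsDomain R] [IsDiscreteValuationRing R] [Algebra R K]
  [IsFractionRing R K] [IsGalois K Ω]

/-- The level-two condition on `Aut(Ω/L)` at one `W | R` implies it for `A_L` at all `W' | R`. -/
theorem levelTwo_all [Normal K L] {W : ValuationSubring Ω} (hW : SGA7.LiesOver K R W)
    (A : Over (Spec (CommRingCat.of K))) [GrpObj A] (ℓ : ℕ)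
    (h : ∀ (ν : ℕ) (σ τ : Ω ≃ₐ[L] Ω), SGA7.IsInertia W σ → SGA7.IsInertia W τ →
        ∀ x : SGA7.Pts (K := K) Ω A, x ^ (ℓ ^ ν) = 1 →
          SGA7.dev (σ.restrictScalars K) (SGA7.dev (τ.restrictScalars K) x) = 1)
    {W' : ValuationSubring Ω} (hW' : SGA7.LiesOver K R W') :
    SGA7.InertiaLevelTwoOn (K := L) W' (Red.bc (fKL K L) A) ℓ := by
  obtain ⟨τ₀, hτ₀⟩ := exists_algEquiv hW hW'
  have hback := symm_mem_iff hτ₀
  intro ν σ τ hσ hτ x hx
  apply (ptsEquiv K L Ω A).injective
  rw [ptsEquiv_dev, ptsEquiv_dev, map_one]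
  obtain ⟨σ', hσ'⟩ := exists_conjRestrict τ₀ σ
  obtain ⟨τ', hτ'⟩ := exists_conjRestrict τ₀ τ
  have h1 : SGA7.IsInertia W σ' := by
    rw [← isInertia_restrictScalars (K := K), hσ']
    have h2 : SGA7.IsInertia W' (σ.restrictScalars K) := hσ
    simpa using isInertia_conj hback h2
  have h1' : SGA7.IsInertia W τ' := by
    rw [← isInertia_restrictScalars (K := K), hτ']
    have h2 : SGA7.IsInertia W' (τ.restrictScalars K) := hτ
    simpa using isInertia_conj hback h2
  have h3 := h ν σ' τ' h1 h1' (SGA7.galAct τ₀⁻¹ (ptsEquiv K L Ω A x)) (by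
    rw [← galAct_map_pow, ← map_pow, hx, map_one, galAct_map_one])
  have h4 := congrArg (SGA7.galAct τ₀) h3
  rw [galAct_dev, galAct_dev, galAct_galAct_inv, galAct_map_one, hσ', hτ'] at h4
  have e : ∀ g : Ω ≃ₐ[K] Ω, τ₀ * (τ₀⁻¹ * g * τ₀) * τ₀⁻¹ = g := fun g => by group
  rwa [e, e] at h4

/-- The trivial-action condition on `Aut(Ω/L)` at one `W | R` implies it for `A_L` at all `W' | R`. -/
theorem trivial_all [Normal K L] {W : ValuationSubring Ω} (hW : SGA7.LiesOver K R W)
    (A : Over (Spec (CommRingCat.of K))) [GrpObj A] (n : ℕ)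
    (h : ∀ (σ : Ω ≃ₐ[L] Ω), SGA7.IsInertia W σ →
        ∀ x : SGA7.Pts (K := K) Ω A, x ^ n = 1 → SGA7.galAct (σ.restrictScalars K) x = x)
    {W' : ValuationSubring Ω} (hW' : SGA7.LiesOver K R W') :
    SGA7.InertiaTrivialOn (K := L) W' (Red.bc (fKL K L) A) n := by
  obtain ⟨τ₀, hτ₀⟩ := exists_algEquiv hW hW'
  have hback := symm_mem_iff hτ₀
  intro σ hσ x hx
  apply (ptsEquiv K L Ω A).injective
  rw [ptsEquiv_galAct]
  obtain ⟨σ', hσ'⟩ := exists_conjRestrict τ₀ σ
  have h1 : SGA7.IsInertia W σ' := by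
    rw [← isInertia_restrictScalars (K := K), hσ']
    have h2 : SGA7.IsInertia W' (σ.restrictScalars K) := hσ
    simpa using isInertia_conj hback h2
  have h3 := h σ' h1 (SGA7.galAct τ₀⁻¹ (ptsEquiv K L Ω A x)) (by
    rw [← galAct_map_pow, ← map_pow, hx, map_one, galAct_map_one])
  have h4 := congrArg (SGA7.galAct τ₀) h3
  rw [galAct_galAct_inv, hσ', ← galAct_mul, ← galAct_mul] at h4
  have e : τ₀ * (τ₀⁻¹ * (σ.restrictScalars K) * τ₀) * τ₀⁻¹ = σ.restrictScalars K := by group
  rwa [e] at h4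

end Restrict

end Groth.Agent.Sga7.H274.ValExt
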